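import Groth.Agent.PrinLib.StalkRing

/-!
# Stalks of the sheaves of principal parts, and maps given on stalks
-/

set_option autoImplicit false
set_option linter.style.haveILetI false
set_option backward.isDefEq.respectTransparency.types false
set_option backward.isDefEq.respectTransparency false
universe u

open CategoryTheory CategoryTheory.Limits AlgebraicGeometry TopologicalSpace Opposite
open scoped TensorProduct
open Groth.Agent.OmegaLib

noncomputable section

namespace Groth.Agent.PrinLib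

/-- Linear maps of stalks carrying germs of sections locally to germs of sections come from a morphism. -/
theorem exists_hom_of_stalks {X : Scheme.{u}} {M N : X.Modules}
    (L : ∀ x : X, (DerSch.stalkFunctor X x).obj M →ₗ[X.presheaf.stalk x] (DerSch.stalkFunctor X x).obj N)
    (h : ∀ (U : X.Opens) (s : Γ(M, U)) (x : X) (_ : x ∈ U), ∃ (W : X.Opens) (e : W ≤ U), x ∈ W ∧
      ∃ t : Γ(N, W), ∀ (y : X) (hy : y ∈ W), L y (gm M U y (e hy) s) = gm N W y hy t) :
    ∃ φ : M ⟶ N, ∀ (U : X.Opens) (s : Γ(M, U)) (x : X) (hx : x ∈ U),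
      gm N U x hx (φ.app U s) = L x (gm M U x hx s) := by
  have hsec : ∀ (U : X.Opens) (s : Γ(M, U)), ∃ t : Γ(N, U), ∀ (y : X) (hy : y ∈ U),
      gm N U y hy t = L y (gm M U y hy s) := by
    intro U s
    choose W e hxW t ht using fun p : U => h U s p.1 p.2
    obtain ⟨g, hg, -⟩ := TopCat.Sheaf.existsUnique_gluing' ⟨N.presheaf, N.isSheaf⟩ W U
      (fun p => homOfLE (e p)) (fun y hy => Opens.mem_iSup.2 ⟨⟨y, hy⟩, hxW ⟨y, hy⟩⟩) t fun p q => by
        refine TopCat.Presheaf.section_ext ⟨N.presheaf, N.isSheaf⟩ _ _ _ fun y hy => ?_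
        refine (N.presheaf.germ_res_apply _ y hy (t p)).trans
          (Eq.trans ?_ (N.presheaf.germ_res_apply _ y hy (t q)).symm)
        exact (ht p y hy.1).symm.trans (ht q y hy.2)
    refine ⟨g, fun y hy => ?_⟩
    have h1 := congrArg (fun a => gm N (W ⟨y, hy⟩) y (hxW ⟨y, hy⟩) a) (hg ⟨y, hy⟩)
    exact ((gm_res N hy (e ⟨y, hy⟩) _ g).symm.trans h1).trans (ht ⟨y, hy⟩ y _).symm
  choose F hF using hsec
  have hext : ∀ {U : X.Opens} {a b : Γ(N, U)}, (∀ (y : X) (hy : y ∈ U), gm N U y hy a = gm N U y hy b) → a = b :=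
    fun h => TopCat.Presheaf.section_ext ⟨N.presheaf, N.isSheaf⟩ _ _ _ h
  let ψ : M.presheaf ⟶ N.presheaf :=
    { app := fun U => AddCommGrpCat.ofHom (AddMonoidHom.mk' (F U.unop) fun a b => hext fun y hy => by
        rw [gm_add, hF, hF, hF, gm_add, map_add])
      naturality := fun U V i => by
        ext s
        refine hext fun y hy => ?_
        refine (hF V.unop _ y hy).trans ?_
        refine (congrArg (L y) (gm_res M (i.unop.le hy) i.unop.le hy s)).trans ?_
        exact ((gm_res N (i.unop.le hy) i.unop.le hy _).trans (hF U.unop s y _)).symm }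
  refine ⟨⟨PresheafOfModules.homMk ψ fun U r m => ?_⟩, fun U s x hx => hF U s x hx⟩
  refine hext fun y hy => ?_
  show gm N U.unop y hy (F U.unop ((show Γ(X, U.unop) from r) • (show Γ(M, U.unop) from m))) =
    gm N U.unop y hy ((show Γ(X, U.unop) from r) • F U.unop m)
  rw [hF, gm_smul, gm_smul, hF, map_smul]

/-- The stalk of a pullback, read from a point equal to the image. -/
theorem exists_pullback_stalk_equiv_at {P Q : Scheme.{u}} (p : P ⟶ Q) (M : Q.Modules) {w : P} {x : Q}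
    (h : p w = x) [alg : Algebra (Q.presheaf.stalk x) (P.presheaf.stalk w)]
    (halg : ∀ a, algebraMap (Q.presheaf.stalk x) (P.presheaf.stalk w) a = stalkMapAt p h a) :
    ∃ E : P.presheaf.stalk w ⊗[Q.presheaf.stalk x] ((DerSch.stalkFunctor Q x).obj M) ≃ₗ[P.presheaf.stalk w]
        (DerSch.stalkFunctor P w).obj ((Scheme.Modules.pullback p).obj M),
      ∀ (U : Q.Opens) (hx : x ∈ U) (hw : w ∈ p ⁻¹ᵁ U) (s : Γ(M, U)),
        E (1 ⊗ₜ gm M U x hx s) = gm _ (p ⁻¹ᵁ U) w hw (OmegaSh.pullSect p M U s) := by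
  subst h
  obtain rfl : alg = (p.stalkMap w).hom.toAlgebra := Algebra.algebra_ext _ _ fun a => by
    rw [halg]
    show p.stalkMap w (Q.presheaf.stalkSpecializes _ a) = _
    rw [TopCat.Presheaf.stalkSpecializes_refl]
    rfl
  obtain ⟨E, hE⟩ := exists_pullback_stalk_equiv p M w
  exact ⟨E, fun U hx _ s => hE U hx s⟩

variable {X S : Scheme.{u}} (f : X ⟶ S) (n : ℕ)

theorem mem_pr1_preimage {x : X} {W : X.Opens} (hW : x ∈ W) :
    PrinPart.toNbhd f n x ∈ PrinPart.pr1 f n ⁻¹ᵁ W := by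
  show PrinPart.pr1 f n (PrinPart.toNbhd f n x) ∈ W
  rw [pr1_toNbhd_apply]
  exact hW

theorem mem_pr2_preimage {x : X} {W : X.Opens} (hW : x ∈ W) :
    PrinPart.toNbhd f n x ∈ PrinPart.pr2 f n ⁻¹ᵁ W := by
  show PrinPart.pr2 f n (PrinPart.toNbhd f n x) ∈ W
  rw [pr2_toNbhd_apply]
  exact hW

theorem preimage_toNbhd_le (O : (PrinPart.nbhd f n).Opens) :
    PrinPart.pr1 f n ⁻¹ᵁ (PrinPart.toNbhd f n ⁻¹ᵁ O) ≤ O := by
  intro y hy
  have h : PrinPart.toNbhd f n (PrinPart.pr1 f n y) ∈ O := hy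
  rwa [toNbhd_pr1_apply] at h

/-- The stalk of a direct image along `pr₁`. -/
theorem exists_pushStalk (M : (PrinPart.nbhd f n).Modules) (x : X) :
    ∃ E : (DerSch.stalkFunctor X x).obj ((Scheme.Modules.pushforward (PrinPart.pr1 f n)).obj M) ≃+
        (DerSch.stalkFunctor (PrinPart.nbhd f n) (PrinPart.toNbhd f n x)).obj M,
      (∀ (W : X.Opens) (hW : x ∈ W) (s : Γ(M, PrinPart.pr1 f n ⁻¹ᵁ W)),
        E (gm ((Scheme.Modules.pushforward (PrinPart.pr1 f n)).obj M) W x hW s) =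
          gm M (PrinPart.pr1 f n ⁻¹ᵁ W) _ (mem_pr1_preimage f n hW) s) ∧
      ∀ (a : X.presheaf.stalk x)
        (m : (DerSch.stalkFunctor X x).obj ((Scheme.Modules.pushforward (PrinPart.pr1 f n)).obj M)),
        E (a • m) = stalkMapAt (PrinPart.pr1 f n) (pr1_toNbhd_apply f n x) a • E m := by
  let P := (Scheme.Modules.pushforward (PrinPart.pr1 f n)).obj M
  let z := PrinPart.toNbhd f n x
  choose U hU s hs using fun m : (DerSch.stalkFunctor X x).obj P => exists_gm _ m
  let F : (DerSch.stalkFunctor X x).obj P → (DerSch.stalkFunctor (PrinPart.nbhd f n) z).obj M :=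
    fun m => gm M (PrinPart.pr1 f n ⁻¹ᵁ U m) z (mem_pr1_preimage f n (hU m)) (s m)
  have key : ∀ (W : X.Opens) (hW : x ∈ W) (t : Γ(M, PrinPart.pr1 f n ⁻¹ᵁ W)),
      F (gm P W x hW t) = gm M (PrinPart.pr1 f n ⁻¹ᵁ W) z (mem_pr1_preimage f n hW) t := by
    intro W hW t
    obtain ⟨W', hW', i, j, he⟩ := P.presheaf.germ_eq x (hU _) hW _ _ (hs (gm P W x hW t))
    refine ((gm_res M (mem_pr1_preimage f n (hU _)) ((PrinPart.pr1 f n).preimage_mono i.le)
      (mem_pr1_preimage f n hW') _).symm.trans ?_).trans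
      (gm_res M (mem_pr1_preimage f n hW) ((PrinPart.pr1 f n).preimage_mono j.le) (mem_pr1_preimage f n hW') t)
    exact congrArg (gm M _ z (mem_pr1_preimage f n hW')) he
  have common : ∀ a b : (DerSch.stalkFunctor X x).obj P, ∃ (V : X.Opens) (hV : x ∈ V)
      (p q : Γ(P, V)), gm _ V x hV p = a ∧ gm _ V x hV q = b := fun a b =>
    ⟨U a ⊓ U b, ⟨hU a, hU b⟩, P.presheaf.map (homOfLE inf_le_left).op (s a),
      P.presheaf.map (homOfLE inf_le_right).op (s b),
      (gm_res _ (hU a) inf_le_left _ _).trans (hs a), (gm_res _ (hU b) inf_le_right _ _).trans (hs b)⟩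
  let F' : (DerSch.stalkFunctor X x).obj P →+ (DerSch.stalkFunctor (PrinPart.nbhd f n) z).obj M :=
    AddMonoidHom.mk' F fun a b => by
      obtain ⟨V, hV, p, q, rfl, rfl⟩ := common a b
      rw [← gm_add, key, key, key]
      exact gm_add M _ _ _
  refine ⟨AddEquiv.ofBijective F' ⟨?_, ?_⟩, fun W hW t => key W hW t, fun a m => ?_⟩
  · intro a b hab
    obtain ⟨V, hV, p, q, rfl, rfl⟩ := common a b
    have h1 := (key V hV p).symm.trans (hab.trans (key V hV q))
    obtain ⟨O, hO, i, j, he⟩ := M.presheaf.germ_eq z (mem_pr1_preimage f n hV) (mem_pr1_preimage f n hV) _ _ h1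
    let V' : X.Opens := V ⊓ PrinPart.toNbhd f n ⁻¹ᵁ O
    have hx' : x ∈ V' := ⟨hV, hO⟩
    have hle : PrinPart.pr1 f n ⁻¹ᵁ V' ≤ O :=
      ((PrinPart.pr1 f n).preimage_mono inf_le_right).trans (preimage_toNbhd_le f n O)
    rw [← gm_res P hV (inf_le_left : V' ≤ V) hx' p, ← gm_res P hV (inf_le_left : V' ≤ V) hx' q]
    refine congrArg (gm P V' x hx') ?_
    have h2 := congrArg (M.presheaf.map (homOfLE hle).op) he
    rw [← ConcreteCategory.comp_apply, ← ConcreteCategory.comp_apply, ← Functor.map_comp,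
      ← Functor.map_comp] at h2
    exact h2
  · intro m
    obtain ⟨O, hO, t, rfl⟩ := exists_gm M m
    let W : X.Opens := PrinPart.toNbhd f n ⁻¹ᵁ O
    refine ⟨gm P W x hO (M.presheaf.map (homOfLE (preimage_toNbhd_le f n O)).op t), ?_⟩
    refine (key W hO _).trans ?_
    exact gm_res M hO _ _ t
  · obtain ⟨V, hV, r, rfl⟩ := X.presheaf.exists_germ_eq (x := x) a
    obtain ⟨W, hW, t, rfl⟩ := exists_gm _ m
    have hx : x ∈ V ⊓ W := ⟨hV, hW⟩
    rw [← gm_res _ hW (inf_le_right : V ⊓ W ≤ W) hx t,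
      ← X.presheaf.germ_res_apply (homOfLE (inf_le_left : V ⊓ W ≤ V)) x hx r, ← gm_smul]
    show F _ = _ • F _
    rw [key, key, stalkMapAt_germ (PrinPart.pr1 f n) _ (V ⊓ W) hx (mem_pr1_preimage f n hx)]
    exact gm_smul M (mem_pr1_preimage f n hx) _ _

/-- The stalk of `P^n(F)` at `x` is `O_z ⊗ F_x`, `z = Δ x`, the tensor product over the right structure. -/
theorem exists_PMod_stalk (F : X.Modules) (x : X) :
    letI := (stalkMapAt (PrinPart.pr2 f n) (pr2_toNbhd_apply f n x)).hom.toAlgebra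
    ∃ E : (DerSch.stalkFunctor X x).obj (PrinPart.PMod f n F) ≃+
        (PrinPart.nbhd f n).presheaf.stalk (PrinPart.toNbhd f n x) ⊗[X.presheaf.stalk x]
          ((DerSch.stalkFunctor X x).obj F),
      (∀ (W : X.Opens) (hW : x ∈ W) (t : Γ(F, W)),
        E (gm (PrinPart.PMod f n F) W x hW (PrinPart.dP f n F W t)) = 1 ⊗ₜ gm F W x hW t) ∧
      ∀ (a : X.presheaf.stalk x) (m : (DerSch.stalkFunctor X x).obj (PrinPart.PMod f n F)),
        E (a • m) = stalkMapAt (PrinPart.pr1 f n) (pr1_toNbhd_apply f n x) a • E m := by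
  letI := (stalkMapAt (PrinPart.pr2 f n) (pr2_toNbhd_apply f n x)).hom.toAlgebra
  obtain ⟨E₁, hE₁, hE₁s⟩ := exists_pushStalk f n ((Scheme.Modules.pullback (PrinPart.pr2 f n)).obj F) x
  obtain ⟨E₂, hE₂⟩ := exists_pullback_stalk_equiv_at (PrinPart.pr2 f n) F (pr2_toNbhd_apply f n x) fun _ => rfl
  refine ⟨E₁.trans E₂.symm.toAddEquiv, fun W hW t => ?_, fun a m => ?_⟩
  · show E₂.symm (E₁ _) = _
    rw [LinearEquiv.symm_apply_eq, hE₂ W hW (mem_pr2_preimage f n hW)]
    refine (hE₁ W hW _).trans ?_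
    exact gm_res _ (mem_pr2_preimage f n hW) (PrinPart.preimage_pr1 f n W).le _ _
  · show E₂.symm (E₁ (a • m)) = _ • E₂.symm (E₁ m)
    refine (congrArg E₂.symm (hE₁s a m)).trans ?_
    exact map_smul E₂.symm _ _

/-- A map out of `P^n(F)` is determined by its values on `d^n`. -/
theorem hom_ext_dP {F G : X.Modules} {φ φ' : PrinPart.PMod f n F ⟶ G}
    (h : ∀ (U : X.Opens) (t : Γ(F, U)), φ.app U (PrinPart.dP f n F U t) = φ'.app U (PrinPart.dP f n F U t)) :
    φ = φ' := by
  refine Scheme.Modules.hom_ext _ _ fun U => ?_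
  ext s
  refine TopCat.Presheaf.section_ext ⟨G.presheaf, G.isSheaf⟩ U _ _ fun x hx => ?_
  obtain ⟨W, hWU, hxW, hmem⟩ := exists_res_mem_spanDP f n F U s hx
  have hW : ∀ v ∈ spanDP f n F W, φ.app W v = φ'.app W v := by
    intro v hv
    induction hv using Submodule.span_induction with
    | mem v hv => obtain ⟨t, rfl⟩ := hv; exact h W t
    | zero => rw [map_zero, map_zero]
    | add a b _ _ ha hb => rw [map_add, map_add, ha, hb]
    | smul a v _ hv => rw [Scheme.Modules.Hom.app_smul, Scheme.Modules.Hom.app_smul, hv]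
  have h1 := hW _ hmem
  show gm G U x hx (φ.app U s) = gm G U x hx (φ'.app U s)
  rw [← gm_res G hx hWU hxW (φ.app U s), ← gm_res G hx hWU hxW (φ'.app U s)]
  refine congrArg (gm G W x hxW) ?_
  refine ((congr($(φ.mapPresheaf.naturality (homOfLE hWU).op) s)).symm.trans ?_).trans
    (congr($(φ'.mapPresheaf.naturality (homOfLE hWU).op) s))
  exact h1

end Groth.Agent.PrinLib
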