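import Groth.Agent.PrinLib.Nbhd
import Mathlib.CategoryTheory.Adjunction.FullyFaithful

/-!
# Principal parts: order zero and change of order
-/

set_option autoImplicit false
set_option backward.isDefEq.respectTransparency.types false
set_option backward.isDefEq.respectTransparency false
set_option linter.style.haveILetI false
universe u

open CategoryTheory CategoryTheory.Limits AlgebraicGeometry TopologicalSpace Opposite

noncomputable section

namespace Groth.Agent.PrinLib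

variable {X Y S : Scheme.{u}}

/-- Direct image along an isomorphism is an equivalence. -/
theorem isEquivalence_pushforward (j : X ⟶ Y) [IsIso j] : (Scheme.Modules.pushforward j).IsEquivalence :=
  (CategoryTheory.Equivalence.mk (Scheme.Modules.pushforward j) (Scheme.Modules.pushforward (inv j))
    ((Scheme.Modules.pushforwardId X).symm ≪≫ Scheme.Modules.pushforwardCongr (IsIso.hom_inv_id j).symm ≪≫
      (Scheme.Modules.pushforwardComp j (inv j)).symm)
    (Scheme.Modules.pushforwardComp (inv j) j ≪≫ Scheme.Modules.pushforwardCongr (IsIso.inv_hom_id j) ≪≫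
      Scheme.Modules.pushforwardId Y)).isEquivalence_functor

/-- Pulling back sections along an isomorphism is bijective. -/
theorem bijective_pullSect_of_isIso (j : X ⟶ Y) [IsIso j] (M : Y.Modules) (U : Y.Opens) :
    Function.Bijective (OmegaSh.pullSect j M U) := by
  haveI := isEquivalence_pushforward j
  haveI := (Scheme.Modules.pullbackPushforwardAdjunction j).isEquivalence_left_of_isEquivalence_right
  exact ConcreteCategory.bijective_of_isIso
    (((Scheme.Modules.pullbackPushforwardAdjunction j).unit.app M).app U)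

variable (f : X ⟶ S)

theorem isIso_toNbhd_zero : IsIso (PrinPart.toNbhd f 0) := by
  refine IsClosedImmersion.isIso_of_ker_eq (PrinPart.diagCl f) (PrinPart.infNbhdι (PrinPart.diagCl f) 0) _
    (PrinPart.toInfNbhd_ι _ 0) ?_
  rw [ker_infNbhdι, zero_add, pow_one]

theorem pr1_zero_eq : PrinPart.pr1 f 0 = PrinPart.pr2 f 0 := by
  haveI := isIso_toNbhd_zero f
  rw [← cancel_epi (PrinPart.toNbhd f 0), PrinPart.toNbhd_pr1, PrinPart.toNbhd_pr2]

theorem isIso_pr2_zero : IsIso (PrinPart.pr2 f 0) := by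
  haveI := isIso_toNbhd_zero f
  haveI : IsIso (PrinPart.toNbhd f 0 ≫ PrinPart.pr2 f 0) := by rw [PrinPart.toNbhd_pr2]; infer_instance
  exact IsIso.of_isIso_comp_left (PrinPart.toNbhd f 0) _

theorem bijective_dP_zero (F : X.Modules) (U : X.Opens) : Function.Bijective (PrinPart.dP f 0 F U) := by
  haveI := isIso_pr2_zero f
  have e : PrinPart.pr1 f 0 ⁻¹ᵁ U = PrinPart.pr2 f 0 ⁻¹ᵁ U := PrinPart.preimage_pr1 f 0 U
  haveI : IsIso (((Scheme.Modules.pullback (PrinPart.pr2 f 0)).obj F).presheaf.map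
      (homOfLE (PrinPart.preimage_pr1 f 0 U).le).op) :=
    inferInstanceAs (IsIso (((Scheme.Modules.pullback (PrinPart.pr2 f 0)).obj F).presheaf.map
      (eqToHom e).op))
  exact (ConcreteCategory.bijective_of_isIso (((Scheme.Modules.pullback (PrinPart.pr2 f 0)).obj F).presheaf.map
      (homOfLE (PrinPart.preimage_pr1 f 0 U).le).op)).comp (bijective_pullSect_of_isIso _ F U)

theorem pullSect_smul (h : X ⟶ Y) (M : Y.Modules) (U : Y.Opens) (a : Γ(Y, U)) (t : Γ(M, U)) :
    OmegaSh.pullSect h M U (a • t) = h.app U a • OmegaSh.pullSect h M U t :=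
  Scheme.Modules.Hom.app_smul ((Scheme.Modules.pullbackPushforwardAdjunction h).unit.app M) a t

/-- `d^n` is linear for the right structure. -/
theorem dP_smul (n : ℕ) (F : X.Modules) (U : X.Opens) (a : Γ(X, U)) (t : Γ(F, U)) :
    PrinPart.dP f n F U (a • t) =
      (show Γ((Scheme.Modules.pullback (PrinPart.pr2 f n)).obj F, PrinPart.pr1 f n ⁻¹ᵁ U) from
        (PrinPart.pr2 f n).appLE U (PrinPart.pr1 f n ⁻¹ᵁ U) (PrinPart.preimage_pr1 f n U).le a •
          (show Γ((Scheme.Modules.pullback (PrinPart.pr2 f n)).obj F, PrinPart.pr1 f n ⁻¹ᵁ U) from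
            PrinPart.dP f n F U t)) := by
  rw [PrinPart.dP_apply, pullSect_smul]
  exact Scheme.Modules.map_smul _ _ _ _

theorem dP_zero_smul (F : X.Modules) (U : X.Opens) (a : Γ(X, U)) (t : Γ(F, U)) :
    PrinPart.dP f 0 F U (a • t) = a • PrinPart.dP f 0 F U t := by
  have key : ∀ (p q : PrinPart.nbhd f 0 ⟶ X) (_ : p = q) (e : q ⁻¹ᵁ U ≤ p ⁻¹ᵁ U),
      p.appLE U (q ⁻¹ᵁ U) e a = q.app U a := by
    rintro p _ rfl e
    rw [Scheme.Hom.appLE_eq_app]
  rw [dP_smul, key _ _ (pr1_zero_eq f).symm]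
  rfl

/-- The map `p₁_* p₂^* F ⟶ q₁_* q₂^* F` induced by `j` with `j ≫ pᵢ = qᵢ`, on pulled back sections. -/
theorem exists_changeMap {Z W : Scheme.{u}} (j : Z ⟶ W) (p₁ p₂ : W ⟶ X) (q₁ q₂ : Z ⟶ X)
    (w₁ : j ≫ p₁ = q₁) (w₂ : j ≫ p₂ = q₂) (F : X.Modules)
    (hp : ∀ U : X.Opens, p₁ ⁻¹ᵁ U ≤ p₂ ⁻¹ᵁ U) (hq : ∀ U : X.Opens, q₁ ⁻¹ᵁ U ≤ q₂ ⁻¹ᵁ U) :
    ∃ χ : (Scheme.Modules.pushforward p₁).obj ((Scheme.Modules.pullback p₂).obj F) ⟶
        (Scheme.Modules.pushforward q₁).obj ((Scheme.Modules.pullback q₂).obj F),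
      ∀ (U : X.Opens) (t : Γ(F, U)),
        χ.app U (((Scheme.Modules.pullback p₂).obj F).presheaf.map (homOfLE (hp U)).op
            (OmegaSh.pullSect p₂ F U t)) =
          ((Scheme.Modules.pullback q₂).obj F).presheaf.map (homOfLE (hq U)).op
            (OmegaSh.pullSect q₂ F U t) := by
  subst w₁ w₂
  let N := (Scheme.Modules.pullback (j ≫ p₂)).obj F
  let β : F ⟶ (Scheme.Modules.pushforward p₂).obj ((Scheme.Modules.pushforward j).obj N) :=
    (Scheme.Modules.pullbackPushforwardAdjunction (j ≫ p₂)).unit.app F ≫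
      (Scheme.Modules.pushforwardComp j p₂).inv.app N
  let ψ : (Scheme.Modules.pullback p₂).obj F ⟶ (Scheme.Modules.pushforward j).obj N :=
    ((Scheme.Modules.pullbackPushforwardAdjunction p₂).homEquiv _ _).symm β
  have hψ : ∀ (U : X.Opens) (t : Γ(F, U)),
      ψ.app (p₂ ⁻¹ᵁ U) (OmegaSh.pullSect p₂ F U t) = β.app U t := by
    intro U t
    have h1 : (Scheme.Modules.pullbackPushforwardAdjunction p₂).homEquiv _ _ ψ = β :=
      Equiv.apply_symm_apply _ _
    rw [Adjunction.homEquiv_unit] at h1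
    exact congr($(h1).app U t)
  refine ⟨(Scheme.Modules.pushforward p₁).map ψ ≫ (Scheme.Modules.pushforwardComp j p₁).hom.app N,
    fun U t => ?_⟩
  show ψ.app (p₁ ⁻¹ᵁ U) _ = _
  refine (congr($(ψ.mapPresheaf.naturality (homOfLE (hp U)).op) (OmegaSh.pullSect p₂ F U t))).trans ?_
  show N.presheaf.map _ (ψ.app (p₂ ⁻¹ᵁ U) _) = _
  rw [hψ]
  rfl

theorem infNbhdMap_pr1 {n m : ℕ} (h : n ≤ m) :
    PrinPart.infNbhdMap (PrinPart.diagCl f) h ≫ PrinPart.pr1 f m = PrinPart.pr1 f n := by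
  simp [PrinPart.pr1, PrinPart.nbhdι]

theorem infNbhdMap_pr2 {n m : ℕ} (h : n ≤ m) :
    PrinPart.infNbhdMap (PrinPart.diagCl f) h ≫ PrinPart.pr2 f m = PrinPart.pr2 f n := by
  simp [PrinPart.pr2, PrinPart.nbhdι]

/-- Change of order `P^m(F) ⟶ P^n(F)` for `n ≤ m`. -/
theorem exists_changeOrder {n m : ℕ} (h : n ≤ m) (F : X.Modules) :
    ∃ χ : PrinPart.PMod f m F ⟶ PrinPart.PMod f n F,
      ∀ (U : X.Opens) (t : Γ(F, U)), χ.app U (PrinPart.dP f m F U t) = PrinPart.dP f n F U t :=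
  exists_changeMap (PrinPart.infNbhdMap (PrinPart.diagCl f) h) (PrinPart.pr1 f m) (PrinPart.pr2 f m)
    (PrinPart.pr1 f n) (PrinPart.pr2 f n) (infNbhdMap_pr1 f h) (infNbhdMap_pr2 f h) F
    (fun U => (PrinPart.preimage_pr1 f m U).le) (fun U => (PrinPart.preimage_pr1 f n U).le)

end Groth.Agent.PrinLib
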