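import Groth.Agent.PrinLib.Order
import Groth.Agent.H8Lim.UniversallyOpen
import Groth.Agent.HilbertBurch29.Spread
import Groth.Agent.OmegaLib.StalkCompat
import Groth.Agent.Coherent.FiniteType
import Mathlib.AlgebraicGeometry.Morphisms.Flat

/-!
# Principal parts are generated by `d^n`
-/

set_option autoImplicit false
set_option backward.isDefEq.respectTransparency.types false
set_option backward.isDefEq.respectTransparency false
set_option linter.style.haveILetI false
universe u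

open CategoryTheory CategoryTheory.Limits AlgebraicGeometry TopologicalSpace Opposite

noncomputable section

namespace Groth.Agent.PrinLib

/-- The subring of a local ring generated by the images of two stalk maps. -/
def genRing {X Y Z : Scheme.{u}} (p : Z ⟶ X) (q : Z ⟶ Y) (z : Z) : Subring (Z.presheaf.stalk z) :=
  Subring.closure (Set.range (p.stalkMap z).hom ∪ Set.range (q.stalkMap z).hom)

/-- The local rings of a fibre product are localizations of the images of the two local rings. -/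
theorem exists_mul_mem_genRing {X Y S Z : Scheme.{u}} (a : X ⟶ S) (b : Y ⟶ S) (p : Z ⟶ X) (q : Z ⟶ Y)
    (H : IsPullback p q a b) (w : Z) (r : Z.presheaf.stalk w) :
    ∃ s ∈ genRing p q w, IsUnit s ∧ s * r ∈ genRing p q w := by
  obtain ⟨T, hT, hT', -⟩ := Opens.isBasis_iff_nbhd.mp S.isBasis_affineOpens (Opens.mem_top (a (p w)))
  have hyT : b (q w) ∈ T := by
    rw [← Scheme.Hom.comp_apply, ← H.w, Scheme.Hom.comp_apply]; exact hT'
  obtain ⟨U, hU, hxU, hUT⟩ := Opens.isBasis_iff_nbhd.mp X.isBasis_affineOpens (show p w ∈ a ⁻¹ᵁ T from hT')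
  obtain ⟨V, hV, hyV, hVT⟩ := Opens.isBasis_iff_nbhd.mp Y.isBasis_affineOpens (show q w ∈ b ⁻¹ᵁ T from hyT)
  let P := p ⁻¹ᵁ U ⊓ q ⁻¹ᵁ V
  have hwP : w ∈ P := ⟨hxU, hyV⟩
  haveI : IsAffine (Scheme.Opens.toScheme T) := hT
  haveI : IsAffine (Scheme.Opens.toScheme U) := hU
  haveI : IsAffine (Scheme.Opens.toScheme V) := hV
  have hP : IsAffineOpen P :=
    .of_isIso (Scheme.Hom.isPullback_resLE H hVT hUT (rfl : P = _)).isoPullback.hom
  have hpush := (isIso_pushoutSection_iff H hVT hUT (rfl : P = _)).mp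
    (isIso_pushoutSection_of_isAffineOpen H hVT hUT rfl hT hV hU)
  have hgen : ∀ t : Γ(Z, P), Z.presheaf.germ P w hwP t ∈ genRing p q w := by
    intro t
    obtain ⟨k, -, c, e, rfl⟩ := H8Lim.exists_sum_mul_of_isPushout hpush t
    rw [map_sum]
    refine Subring.sum_mem _ fun i _ => ?_
    rw [map_mul]
    refine Subring.mul_mem _ (Subring.subset_closure (Or.inl ⟨X.presheaf.germ U (p w) hxU (c i), ?_⟩))
      (Subring.subset_closure (Or.inr ⟨Y.presheaf.germ V (q w) hyV (e i), ?_⟩))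
    · refine (Scheme.Hom.germ_stalkMap_apply p U w hxU (c i)).trans ?_
      exact (Z.presheaf.germ_res_apply (homOfLE (inf_le_left : P ≤ p ⁻¹ᵁ U)) w hwP _).symm
    · refine (Scheme.Hom.germ_stalkMap_apply q V w hyV (e i)).trans ?_
      exact (Z.presheaf.germ_res_apply (homOfLE (inf_le_right : P ≤ q ⁻¹ᵁ V)) w hwP _).symm
  letI := Z.presheaf.algebra_section_stalk ⟨w, hwP⟩
  haveI : IsLocalization.AtPrime (Z.presheaf.stalk w) (hP.primeIdealOf ⟨w, hwP⟩).asIdeal :=
    hP.isLocalization_stalk ⟨w, hwP⟩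
  obtain ⟨u, v, rfl⟩ := IsLocalization.exists_mk'_eq (hP.primeIdealOf ⟨w, hwP⟩).asIdeal.primeCompl r
  refine ⟨algebraMap Γ(Z, P) (Z.presheaf.stalk w) (v : Γ(Z, P)), hgen _, IsLocalization.map_units _ v, ?_⟩
  rw [IsLocalization.mk'_spec']
  exact hgen _

variable {X S : Scheme.{u}} (f : X ⟶ S) (n : ℕ)

theorem le_comap_map {A B : Scheme.{u}} (ι : A ⟶ B) [IsClosedImmersion ι] (I : A.IdealSheafData) :
    I ≤ (I.map ι).comap ι := by
  choose V hV hxV hle using fun x : A => Opens.isBasis_iff_nbhd.mp B.isBasis_affineOpens (Opens.mem_top (ι x))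
  refine le_of_eq (Scheme.IdealSheafData.ext_of_iSup_eq_top
    (fun x => (⟨ι ⁻¹ᵁ V x, (hV x).preimage ι⟩ : A.affineOpens)) (top_le_iff.1 fun x _ => ?_) fun x => ?_)
  · exact Opens.mem_iSup.2 ⟨x, hxV x⟩
  · rw [FSchLib.ideal_comap_eq_map ι _ ⟨ι ⁻¹ᵁ V x, (hV x).preimage ι⟩ ⟨V x, hV x⟩ le_rfl,
      Scheme.IdealSheafData.ideal_map_of_isAffineHom, Scheme.Hom.appLE_eq_app,
      Ideal.map_comap_of_surjective _ (ι.app_surjective (V x) (hV x))]

theorem isClosedImmersion_toNbhd : IsClosedImmersion (PrinPart.toNbhd f n) := by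
  haveI : IsClosedImmersion (PrinPart.toNbhd f n ≫ PrinPart.infNbhdι (PrinPart.diagCl f) n) := by
    rw [PrinPart.toInfNbhd_ι]; infer_instance
  exact IsClosedImmersion.of_comp (PrinPart.toNbhd f n) (PrinPart.infNbhdι (PrinPart.diagCl f) n)

theorem ker_toNbhd_pow : (PrinPart.toNbhd f n).ker ^ (n + 1) ≤ ⊥ := by
  haveI := isClosedImmersion_toNbhd f n
  let ι := PrinPart.infNbhdι (PrinPart.diagCl f) n
  have h1 : (PrinPart.toNbhd f n).ker ≤ (PrinPart.diagCl f).ker.comap ι := by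
    have h2 : (PrinPart.diagCl f).ker = (PrinPart.toNbhd f n).ker.map ι := by
      rw [Scheme.IdealSheafData.map_ker, PrinPart.toInfNbhd_ι]
    rw [h2]
    exact le_comap_map ι _
  refine (pow_mono h1 (n + 1)).trans ?_
  rw [← FSchLib.comap_pow, ← ker_infNbhdι, ← Scheme.IdealSheafData.le_map_iff_comap_le]
  simp [ι]

theorem genRing_stalk_eq_top (x : X) :
    genRing (PrinPart.pr1 f n) (PrinPart.pr2 f n) (PrinPart.toNbhd f n x) = ⊤ := by
  haveI := isClosedImmersion_toNbhd f n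
  let t := PrinPart.toNbhd f n
  let z := t x
  let G := genRing (PrinPart.pr1 f n) (PrinPart.pr2 f n) z
  let ρ := (t.stalkMap x).hom
  haveI : IsPreimmersion (PrinPart.nbhdι f n) := by
    unfold PrinPart.nbhdι
    infer_instance
  have hι := (PrinPart.nbhdι f n).stalkMap_surjective z
  have hG : ∀ g ∈ genRing (pullback.fst f f) (pullback.snd f f) (PrinPart.nbhdι f n z),
      (PrinPart.nbhdι f n).stalkMap z g ∈ G := by
    intro g hg
    induction hg using Subring.closure_induction with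
    | mem g hg =>
      rcases hg with ⟨c, rfl⟩ | ⟨c, rfl⟩
      · refine Subring.subset_closure (Or.inl ⟨c, ?_⟩)
        show (PrinPart.nbhdι f n ≫ pullback.fst f f).stalkMap z c = _
        rw [Scheme.Hom.stalkMap_comp]
        rfl
      · refine Subring.subset_closure (Or.inr ⟨c, ?_⟩)
        show (PrinPart.nbhdι f n ≫ pullback.snd f f).stalkMap z c = _
        rw [Scheme.Hom.stalkMap_comp]
        rfl
    | zero => rw [map_zero]; exact G.zero_mem
    | one => rw [map_one]; exact G.one_mem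
    | add a b _ _ ha hb => rw [map_add]; exact G.add_mem ha hb
    | neg a _ ha => rw [map_neg]; exact G.neg_mem ha
    | mul a b _ _ ha hb => rw [map_mul]; exact G.mul_mem ha hb
  have hρ1 : Function.Bijective fun c => ρ ((PrinPart.pr1 f n).stalkMap z c) := by
    have h1 : IsIso ((t ≫ PrinPart.pr1 f n).stalkMap x) := by
      haveI : IsIso (t ≫ PrinPart.pr1 f n) := by rw [PrinPart.toNbhd_pr1]; infer_instance
      infer_instance
    rw [Scheme.Hom.stalkMap_comp] at h1
    exact ConcreteCategory.bijective_of_isIso ((PrinPart.pr1 f n).stalkMap z ≫ t.stalkMap x)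
  have hnil : ∀ ν, ρ ν = 0 → ν ^ (n + 1) = 0 := by
    intro ν hν
    obtain ⟨U, hU, hzU, -⟩ := Opens.isBasis_iff_nbhd.mp (PrinPart.nbhd f n).isBasis_affineOpens (Opens.mem_top z)
    have h1 : ν ∈ RingHom.ker (t.stalkMap x).hom := hν
    rw [HilbertBurch29.ker_stalkMap_eq t x ⟨U, hU⟩ hzU] at h1
    have h2 := Ideal.pow_mem_pow h1 (n + 1)
    rw [← Ideal.map_pow] at h2
    have h3 := ker_toNbhd_pow f n ⟨U, hU⟩
    rw [Scheme.IdealSheafData.ideal_pow, Pi.pow_apply] at h3
    have h4 := Ideal.map_mono (f := ((PrinPart.nbhd f n).presheaf.germ U z hzU).hom) h3 h2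
    simpa using h4
  have hinv : ∀ s ∈ G, IsUnit s → ∃ s' ∈ G, s' * s = 1 := by
    intro s hs hsu
    obtain ⟨c, hc⟩ := hρ1.2 (ρ s)
    have hcu : IsUnit c := by
      refine isUnit_of_map_unit ((PrinPart.pr1 f n).stalkMap z).hom c (isUnit_of_map_unit ρ _ ?_)
      rw [show ρ (((PrinPart.pr1 f n).stalkMap z).hom c) = ρ s from hc]
      exact hsu.map ρ
    obtain ⟨c, rfl⟩ := hcu
    let e := (PrinPart.pr1 f n).stalkMap z (↑c⁻¹ : X.presheaf.stalk (PrinPart.pr1 f n z))
    have he : e ∈ G := Subring.subset_closure (Or.inl ⟨_, rfl⟩)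
    have hν : ρ (1 - e * s) = 0 := by
      rw [map_sub, map_one, map_mul, ← hc]
      show 1 - ρ e * ρ ((PrinPart.pr1 f n).stalkMap z (c : X.presheaf.stalk (PrinPart.pr1 f n z))) = 0
      rw [← map_mul, ← map_mul, Units.inv_mul, map_one, map_one, sub_self]
    have h0 := hnil _ hν
    refine ⟨(∑ k ∈ Finset.range (n + 1), (1 - e * s) ^ k) * e,
      G.mul_mem (G.sum_mem fun k _ => G.pow_mem (G.sub_mem G.one_mem (G.mul_mem he hs)) k) he, ?_⟩
    have h1 := geom_sum_mul_neg (1 - e * s) (n + 1)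
    rw [h0, sub_zero, sub_sub_cancel, ← mul_assoc] at h1
    exact h1
  rw [eq_top_iff]
  intro m _
  obtain ⟨r, rfl⟩ := hι m
  obtain ⟨s, hs, hsu, hsr⟩ := exists_mul_mem_genRing f f (pullback.fst f f) (pullback.snd f f)
    (IsPullback.of_hasPullback f f) (PrinPart.nbhdι f n z) r
  obtain ⟨s', hs', h1⟩ := hinv _ (hG s hs) (hsu.map _)
  have h2 := G.mul_mem hs' (hG _ hsr)
  rw [map_mul, ← mul_assoc, h1, one_mul] at h2
  exact h2

/-- The `O_X`-span of the values of `d^n` over `W`. -/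
def spanDP (F : X.Modules) (W : X.Opens) : Submodule Γ(X, W) Γ(PrinPart.PMod f n F, W) :=
  Submodule.span Γ(X, W) (Set.range (PrinPart.dP f n F W))

/-- The underlying module on the neighbourhood of the diagonal. -/
abbrev nbhdMod (F : X.Modules) : (PrinPart.nbhd f n).Modules :=
  (Scheme.Modules.pullback (PrinPart.pr2 f n)).obj F

/-- A section of `P^n(F)` as a section of the underlying module. -/
def secOf {F : X.Modules} {W : X.Opens} (v : Γ(PrinPart.PMod f n F, W)) :
    Γ(nbhdMod f n F, PrinPart.pr1 f n ⁻¹ᵁ W) := v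

theorem res_mem_spanDP (F : X.Modules) {W W' : X.Opens} (h : W' ≤ W) {v : Γ(PrinPart.PMod f n F, W)}
    (hv : v ∈ spanDP f n F W) :
    (PrinPart.PMod f n F).presheaf.map (homOfLE h).op v ∈ spanDP f n F W' := by
  induction hv using Submodule.span_induction with
  | mem v hv =>
    obtain ⟨t, rfl⟩ := hv
    rw [← PrinPart.dP_map]
    exact Submodule.subset_span ⟨_, rfl⟩
  | zero => rw [map_zero]; exact zero_mem _
  | add a b _ _ ha hb => rw [map_add]; exact add_mem ha hb
  | smul a v _ hv =>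
    rw [Scheme.Modules.map_smul]
    exact Submodule.smul_mem _ _ hv

/-- Right multiplication preserves the span. -/
theorem right_smul_mem_spanDP (F : X.Modules) {W : X.Opens} (b : Γ(X, W))
    {v : Γ(PrinPart.PMod f n F, W)} (hv : v ∈ spanDP f n F W) :
    ∃ v' ∈ spanDP f n F W, secOf f n v' =
      (PrinPart.pr2 f n).appLE W _ (PrinPart.preimage_pr1 f n W).le b • secOf f n v := by
  induction hv using Submodule.span_induction with
  | mem v hv =>
    obtain ⟨t, rfl⟩ := hv
    exact ⟨_, Submodule.subset_span ⟨b • t, rfl⟩, dP_smul f n F W b t⟩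
  | zero => exact ⟨0, zero_mem _, (smul_zero _).symm⟩
  | add u v _ _ hu hv =>
    obtain ⟨u', hu', eu⟩ := hu
    obtain ⟨v', hv', ev⟩ := hv
    refine ⟨u' + v', add_mem hu' hv', ?_⟩
    show secOf f n u' + secOf f n v' = _ • (secOf f n u + secOf f n v)
    rw [eu, ev, smul_add]
  | smul a v _ hv =>
    obtain ⟨v', hv', ev⟩ := hv
    refine ⟨a • v', Submodule.smul_mem _ _ hv', ?_⟩
    show (PrinPart.pr1 f n).app W a • secOf f n v' = _ • ((PrinPart.pr1 f n).app W a • secOf f n v)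
    rw [ev, smul_comm]

/-- Every local section of `P^n(F)` is locally in the span of the values of `d^n`. -/
theorem exists_res_mem_spanDP (F : X.Modules) (U : X.Opens) (s : Γ(PrinPart.PMod f n F, U)) {x : X}
    (hx : x ∈ U) : ∃ (W : X.Opens) (h : W ≤ U), x ∈ W ∧
      (PrinPart.PMod f n F).presheaf.map (homOfLE h).op s ∈ spanDP f n F W := by
  let z := PrinPart.toNbhd f n x
  let M := nbhdMod f n F
  have hpt : ∀ W : X.Opens, x ∈ W → z ∈ PrinPart.pr1 f n ⁻¹ᵁ W := fun W hW => by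
    show PrinPart.pr1 f n (PrinPart.toNbhd f n x) ∈ W
    rw [← Scheme.Hom.comp_apply, PrinPart.toNbhd_pr1]
    exact hW
  let P : (DerSch.stalkFunctor (PrinPart.nbhd f n) z).obj M → Prop := fun m =>
    ∃ (W : X.Opens) (hW : x ∈ W) (v : Γ(PrinPart.PMod f n F, W)),
      v ∈ spanDP f n F W ∧ OmegaLib.gm M _ z (hpt W hW) (secOf f n v) = m
  have hP0 : P 0 := ⟨⊤, Opens.mem_top x, 0, zero_mem _, OmegaLib.gm_zero _ _⟩
  have hPadd : ∀ a b, P a → P b → P (a + b) := by
    rintro _ _ ⟨W, hW, v, hv, rfl⟩ ⟨W', hW', v', hv', rfl⟩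
    refine ⟨W ⊓ W', ⟨hW, hW'⟩, (PrinPart.PMod f n F).presheaf.map (homOfLE inf_le_left).op v +
      (PrinPart.PMod f n F).presheaf.map (homOfLE inf_le_right).op v',
      add_mem (res_mem_spanDP f n F _ hv) (res_mem_spanDP f n F _ hv'), ?_⟩
    refine (OmegaLib.gm_add M _ _ _).trans ?_
    congr 1
    · exact OmegaLib.gm_res M (hpt W hW) ((PrinPart.pr1 f n).preimage_mono inf_le_left) _ _
    · exact OmegaLib.gm_res M (hpt W' hW') ((PrinPart.pr1 f n).preimage_mono inf_le_right) _ _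
  have hx1 : PrinPart.pr1 f n z = x := by
    show PrinPart.pr1 f n (PrinPart.toNbhd f n x) = x
    rw [← Scheme.Hom.comp_apply, PrinPart.toNbhd_pr1]; rfl
  have hx2 : PrinPart.pr2 f n z = x := by rw [← PrinPart.pr1_apply]; exact hx1
  have hP1 : ∀ (c : X.presheaf.stalk (PrinPart.pr1 f n z)) m, P m →
      P ((PrinPart.pr1 f n).stalkMap z c • m) := by
    rintro c _ ⟨W, hW, v, hv, rfl⟩
    obtain ⟨A, hA, a, rfl⟩ := X.presheaf.exists_germ_eq (x := PrinPart.pr1 f n z) c
    have hA' : x ∈ A := hx1 ▸ hA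
    refine ⟨A ⊓ W, ⟨hA', hW⟩, X.presheaf.map (homOfLE inf_le_left).op a •
      (PrinPart.PMod f n F).presheaf.map (homOfLE inf_le_right).op v,
      Submodule.smul_mem _ _ (res_mem_spanDP f n F _ hv), ?_⟩
    refine (OmegaLib.gm_smul M _ ((PrinPart.pr1 f n).app (A ⊓ W) (X.presheaf.map (homOfLE inf_le_left).op a))
      (secOf f n ((PrinPart.PMod f n F).presheaf.map (homOfLE inf_le_right).op v))).trans ?_
    congr 1
    · rw [← Scheme.Hom.germ_stalkMap_apply (PrinPart.pr1 f n) (A ⊓ W) z (hpt (A ⊓ W) ⟨hA', hW⟩)]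
      exact congrArg _ (X.presheaf.germ_res_apply _ _ _ a)
    · exact OmegaLib.gm_res M (hpt W hW) ((PrinPart.pr1 f n).preimage_mono inf_le_right) _ _
  have hP2 : ∀ (c : X.presheaf.stalk (PrinPart.pr2 f n z)) m, P m →
      P ((PrinPart.pr2 f n).stalkMap z c • m) := by
    rintro c _ ⟨W, hW, v, hv, rfl⟩
    obtain ⟨A, hA, a, rfl⟩ := X.presheaf.exists_germ_eq (x := PrinPart.pr2 f n z) c
    have hA' : x ∈ A := hx2 ▸ hA
    obtain ⟨v', hv', ev⟩ := right_smul_mem_spanDP f n F (X.presheaf.map (homOfLE (inf_le_left : A ⊓ W ≤ A)).op a)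
      (res_mem_spanDP f n F (inf_le_right : A ⊓ W ≤ W) hv)
    refine ⟨A ⊓ W, ⟨hA', hW⟩, v', hv', ?_⟩
    rw [ev]
    refine (OmegaLib.gm_smul M _ _ _).trans ?_
    congr 1
    · have h2 : PrinPart.pr2 f n z ∈ A ⊓ W := by rw [hx2]; exact ⟨hA', hW⟩
      rw [Scheme.Hom.appLE, CommRingCat.comp_apply]
      refine ((PrinPart.nbhd f n).presheaf.germ_res_apply _ z _ _).trans ?_
      rw [← Scheme.Hom.germ_stalkMap_apply (PrinPart.pr2 f n) (A ⊓ W) z h2]
      exact congrArg _ (X.presheaf.germ_res_apply _ _ _ a)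
    · exact OmegaLib.gm_res M (hpt W hW) ((PrinPart.pr1 f n).preimage_mono inf_le_right) _ _
  have hPG : ∀ g ∈ genRing (PrinPart.pr1 f n) (PrinPart.pr2 f n) z, ∀ m, P m → P (g • m) := by
    intro g hg
    induction hg using Subring.closure_induction with
    | mem g hg =>
      rcases hg with ⟨c, rfl⟩ | ⟨c, rfl⟩
      · exact hP1 c
      · exact hP2 c
    | zero => intro m _; rw [zero_smul]; exact hP0
    | one => intro m hm; rw [one_smul]; exact hm
    | add a b _ _ ha hb => intro m hm; rw [add_smul]; exact hPadd _ _ (ha m hm) (hb m hm)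
    | neg a _ ha =>
      intro m hm
      obtain ⟨W, hW, v, hv, e⟩ := ha m hm
      refine ⟨W, hW, -v, neg_mem hv, ?_⟩
      rw [neg_smul, ← e]
      exact map_neg (M.presheaf.germ _ z (hpt W hW)).hom v
    | mul a b _ _ ha hb => intro m hm; rw [mul_smul]; exact ha _ (hb m hm)
  have hall : ∀ m, P m := by
    intro m
    obtain ⟨E, hE⟩ := OmegaLib.exists_pullback_stalk_equiv (PrinPart.pr2 f n) F z
    obtain ⟨t, rfl⟩ := E.surjective m
    induction t using TensorProduct.induction_on with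
    | zero => rw [map_zero]; exact hP0
    | add a b ha hb => rw [map_add]; exact hPadd _ _ ha hb
    | tmul c y =>
      letI := ((PrinPart.pr2 f n).stalkMap z).hom.toAlgebra
      obtain ⟨A, hA, t, rfl⟩ := OmegaLib.exists_gm F y
      rw [show c ⊗ₜ[X.presheaf.stalk (PrinPart.pr2 f n z)] OmegaLib.gm F A (PrinPart.pr2 f n z) hA t =
          c • ((1 : (PrinPart.nbhd f n).presheaf.stalk z) ⊗ₜ[X.presheaf.stalk (PrinPart.pr2 f n z)]
            OmegaLib.gm F A (PrinPart.pr2 f n z) hA t) by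
        rw [TensorProduct.smul_tmul', smul_eq_mul, mul_one], map_smul, hE]
      refine hPG c (by rw [genRing_stalk_eq_top]; trivial) _
        ⟨A, hx2 ▸ hA, PrinPart.dP f n F A t, Submodule.subset_span ⟨t, rfl⟩, ?_⟩
      exact OmegaLib.gm_res M (show z ∈ PrinPart.pr2 f n ⁻¹ᵁ A from hA) (PrinPart.preimage_pr1 f n A).le _ _
  obtain ⟨W, hW, v, hv, he⟩ := hall (OmegaLib.gm M _ z (hpt U hx) (secOf f n s))
  obtain ⟨O, hO, i, k, hik⟩ := M.presheaf.germ_eq z (hpt W hW) (hpt U hx) _ _ he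
  let W' : X.Opens := W ⊓ U ⊓ PrinPart.toNbhd f n ⁻¹ᵁ O
  have hle : PrinPart.pr1 f n ⁻¹ᵁ W' ≤ O := by
    intro y hy
    obtain ⟨y', rfl⟩ := PrinPart.toInfNbhd_surjective (PrinPart.diagCl f) n y
    have h1 : PrinPart.pr1 f n (PrinPart.toNbhd f n y') ∈ W' := hy
    rw [← Scheme.Hom.comp_apply, PrinPart.toNbhd_pr1] at h1
    exact h1.2
  refine ⟨W', inf_le_left.trans inf_le_right, ⟨⟨hW, hx⟩, hO⟩, ?_⟩
  have key : (PrinPart.PMod f n F).presheaf.map (homOfLE (inf_le_left.trans inf_le_right : W' ≤ U)).op s =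
      (PrinPart.PMod f n F).presheaf.map (homOfLE (inf_le_left.trans inf_le_left : W' ≤ W)).op v := by
    have h1 := congrArg (M.presheaf.map (homOfLE hle).op) hik
    rw [← ConcreteCategory.comp_apply, ← ConcreteCategory.comp_apply, ← Functor.map_comp,
      ← Functor.map_comp] at h1
    exact h1.symm
  rw [key]
  exact res_mem_spanDP f n F _ hv

/-- A map into `P^n` hitting locally all `d^n b` is an epimorphism. -/
theorem epi_of_dn {M : X.Modules} (φ : M ⟶ PrinPart.P f n)
    (h : ∀ (W : X.Opens) (b : Γ(X, W)) (x : X), x ∈ W → ∃ (W' : X.Opens) (e : W' ≤ W),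
      x ∈ W' ∧ ∃ m : Γ(M, W'), φ.app W' m =
        (PrinPart.P f n).presheaf.map (homOfLE e).op (PrinPart.dn f n W b)) : Epi φ := by
  refine Coherent.epi_of_locally_surjective φ fun U s x hx => ?_
  obtain ⟨W, hWU, hxW, hW⟩ := exists_res_mem_spanDP f n (Coh.structureModule X) U s hx
  suffices key : ∀ v ∈ spanDP f n (Coh.structureModule X) W, ∃ (W' : X.Opens) (e : W' ≤ W),
      x ∈ W' ∧ ∃ m : Γ(M, W'), φ.app W' m = (PrinPart.P f n).presheaf.map (homOfLE e).op v by
    obtain ⟨W', e, hxW', m, hm⟩ := key _ hW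
    refine ⟨W', e.trans hWU, hxW', m, ?_⟩
    rw [hm, ← ConcreteCategory.comp_apply, ← Functor.map_comp]
    rfl
  intro v hv
  induction hv using Submodule.span_induction with
  | mem v hv =>
    obtain ⟨b, rfl⟩ := hv
    exact h W (OmegaSh.fnSect X W b) x hxW
  | zero => exact ⟨W, le_rfl, hxW, 0, by rw [map_zero, map_zero]⟩
  | add v v' _ _ hv hv' =>
    obtain ⟨A, eA, hxA, m, hm⟩ := hv
    obtain ⟨B, eB, hxB, m', hm'⟩ := hv'
    refine ⟨A ⊓ B, inf_le_left.trans eA, ⟨hxA, hxB⟩,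
      M.presheaf.map (homOfLE inf_le_left).op m + M.presheaf.map (homOfLE inf_le_right).op m', ?_⟩
    rw [map_add, map_add]
    congr 1
    · refine (congr($(φ.mapPresheaf.naturality (homOfLE inf_le_left).op) m)).trans ?_
      show (PrinPart.P f n).presheaf.map _ (φ.app A m) = _
      rw [hm, ← ConcreteCategory.comp_apply, ← Functor.map_comp]
      rfl
    · refine (congr($(φ.mapPresheaf.naturality (homOfLE inf_le_right).op) m')).trans ?_
      show (PrinPart.P f n).presheaf.map _ (φ.app B m') = _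
      rw [hm', ← ConcreteCategory.comp_apply, ← Functor.map_comp]
      rfl
  | smul a v _ hv =>
    obtain ⟨A, eA, hxA, m, hm⟩ := hv
    refine ⟨A, eA, hxA, X.presheaf.map (homOfLE eA).op a • m, ?_⟩
    rw [Scheme.Modules.Hom.app_smul, hm, Scheme.Modules.map_smul]

end Groth.Agent.PrinLib
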