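import Groth.Agent.PrinLib.Nbhd
import Mathlib.AlgebraicGeometry.Morphisms.Affine
import Mathlib.AlgebraicGeometry.Morphisms.Finite
import Mathlib.AlgebraicGeometry.Morphisms.Integral
import Mathlib.AlgebraicGeometry.Morphisms.Proper

/-!
# The first projection of the neighbourhood of the diagonal is affine
-/

set_option autoImplicit false
set_option backward.isDefEq.respectTransparency false
universe u

open CategoryTheory CategoryTheory.Limits AlgebraicGeometry TopologicalSpace

noncomputable section

namespace Groth.Agent.PrinLib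

variable {X S : Scheme.{u}} (f : X ⟶ S) (n : ℕ)

theorem toNbhd_pr1_apply (y : PrinPart.nbhd f n) : PrinPart.toNbhd f n (PrinPart.pr1 f n y) = y := by
  obtain ⟨x, rfl⟩ := PrinPart.toInfNbhd_surjective (PrinPart.diagCl f) n y
  show PrinPart.toNbhd f n (PrinPart.pr1 f n (PrinPart.toNbhd f n x)) = PrinPart.toNbhd f n x
  rw [← Scheme.Hom.comp_apply (PrinPart.toNbhd f n) (PrinPart.pr1 f n), PrinPart.toNbhd_pr1]
  rfl

theorem pr1_toNbhd_apply (x : X) : PrinPart.pr1 f n (PrinPart.toNbhd f n x) = x := by
  rw [← Scheme.Hom.comp_apply, PrinPart.toNbhd_pr1]; rfl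

/-- The homeomorphism of the neighbourhood of the diagonal with `X`. -/
def pr1Homeo : PrinPart.nbhd f n ≃ₜ X where
  toFun := PrinPart.pr1 f n
  invFun := PrinPart.toNbhd f n
  left_inv := toNbhd_pr1_apply f n
  right_inv := pr1_toNbhd_apply f n
  continuous_toFun := (PrinPart.pr1 f n).continuous
  continuous_invFun := (PrinPart.toNbhd f n).continuous

instance isAffineHom_pr1 : IsAffineHom (PrinPart.pr1 f n) :=
  isAffineHom_of_isInducing _ (pr1Homeo f n).isInducing (pr1Homeo f n).isClosedEmbedding.isClosed_range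

end Groth.Agent.PrinLib

namespace Groth.Agent.PrinLib

/-- A retraction of an infinitesimal neighbourhood onto the closed subscheme is integral. -/
theorem isIntegralHom_of_retraction {X Y : Scheme.{u}} (i : Y ⟶ X) [IsClosedImmersion i] (n : ℕ)
    (h : PrinPart.infNbhd i n ⟶ Y) (hh : PrinPart.toInfNbhd i n ≫ h = 𝟙 Y) : IsIntegralHom h := by
  have hsurj := PrinPart.toInfNbhd_surjective i n
  have hr : ∀ y, h (PrinPart.toInfNbhd i n y) = y := fun y => by
    rw [← Scheme.Hom.comp_apply, hh]; rfl
  let e : PrinPart.infNbhd i n ≃ₜ Y :=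
    { toFun := h
      invFun := PrinPart.toInfNbhd i n
      left_inv := fun z => by
        obtain ⟨y, rfl⟩ := hsurj z
        rw [hr]
      right_inv := hr
      continuous_toFun := h.continuous
      continuous_invFun := (PrinPart.toInfNbhd i n).continuous }
  refine IsIntegralHom.iff_universallyClosed_and_isAffineHom.2 ⟨?_,
    isAffineHom_of_isInducing _ e.isInducing e.isClosedEmbedding.isClosed_range⟩
  haveI : Surjective (PrinPart.toInfNbhd i n) := ⟨hsurj⟩
  haveI : UniversallyClosed (PrinPart.toInfNbhd i n ≫ h) := by rw [hh]; infer_instance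
  exact UniversallyClosed.of_comp_surjective (PrinPart.toInfNbhd i n) h

instance isIntegralHom_pr1 {X S : Scheme.{u}} (f : X ⟶ S) (n : ℕ) : IsIntegralHom (PrinPart.pr1 f n) :=
  isIntegralHom_of_retraction (PrinPart.diagCl f) n _ (PrinPart.toNbhd_pr1 f n)

instance isFinite_pr1 {X S : Scheme.{u}} (f : X ⟶ S) [LocallyOfFiniteType f] (n : ℕ) :
    IsFinite (PrinPart.pr1 f n) := by
  refine (IsFinite.iff_isIntegralHom_and_locallyOfFiniteType _).mpr ⟨inferInstance, ?_⟩
  unfold PrinPart.pr1 PrinPart.nbhdι PrinPart.infNbhdι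
  infer_instance

end Groth.Agent.PrinLib
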