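import Mathlib.RingTheory.Kaehler.Basic
import Mathlib.RingTheory.Localization.AtPrime.Basic
import Mathlib.Algebra.Category.Ring.Constructions
import Mathlib.RingTheory.Nilpotent.Basic

/-!
# Base change of the rings of principal parts
-/

set_option autoImplicit false
set_option linter.style.haveILetI false
universe u

open CategoryTheory CategoryTheory.Limits
open scoped TensorProduct

noncomputable section

namespace Groth.Agent.PrinLib

/-- If `A'` is a localization of `k' ⊗_k B` and `A` of `B`, then `A' ⊗_A P^n_{A/k} = P^n_{A'/k'}`. -/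
theorem exists_principalParts_baseChange {k k' B C : CommRingCat.{u}} {a : k ⟶ B} {b : k ⟶ k'} {c : B ⟶ C}
    {d : k' ⟶ C} (hpush : IsPushout a b c d)
    {A A' O O' : Type u} [CommRing A] [CommRing A'] [CommRing O] [CommRing O']
    [Algebra k A] [Algebra k' A'] [Algebra A A'] [Algebra B A] [Algebra C A']
    (M₀ : Submonoid B) [IsLocalization M₀ A] (M : Submonoid C) [IsLocalization M A']
    (hk : ∀ r, algebraMap B A (a r) = algebraMap k A r)
    (hk' : ∀ r, algebraMap C A' (d r) = algebraMap k' A' r)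
    (hc : ∀ x, algebraMap A A' (algebraMap B A x) = algebraMap C A' (c x))
    (n : ℕ) (ψ : A ⊗[k] A →+* O) (hψ : Function.Surjective ψ)
    (hψk : RingHom.ker ψ = KaehlerDifferential.ideal k A ^ (n + 1))
    (ψ' : A' ⊗[k'] A' →+* O') (hψ' : Function.Surjective ψ')
    (hψk' : RingHom.ker ψ' = KaehlerDifferential.ideal k' A' ^ (n + 1)) :
    letI := (ψ.comp Algebra.TensorProduct.includeLeftRingHom).toAlgebra
    ∃ Φ : A' ⊗[A] O →+* O', Function.Bijective Φ ∧ (∀ a', Φ (a' ⊗ₜ[A] (1 : O)) = ψ' (a' ⊗ₜ 1)) ∧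
      ∀ x : A, Φ (1 ⊗ₜ[A] ψ (1 ⊗ₜ x)) = ψ' (1 ⊗ₜ algebraMap A A' x) := by
  letI algO : Algebra A O := (ψ.comp Algebra.TensorProduct.includeLeftRingHom).toAlgebra
  let R := A' ⊗[A] O
  let σ := algebraMap A A'
  have hbk : ∀ r, σ (algebraMap k A r) = algebraMap k' A' (b r) := fun r => by
    rw [← hk, hc, ← hk']
    exact congrArg (algebraMap C A') congr($(hpush.w) r)
  -- the natural map
  let gg : A ⊗[k] A →+* A' ⊗[k'] A' :=
    letI := ((algebraMap k' A').comp b.hom).toAlgebra
    letI : Algebra k (A' ⊗[k'] A') :=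
      (((Algebra.TensorProduct.includeLeftRingHom : A' →+* A' ⊗[k'] A').comp σ).comp (algebraMap k A)).toAlgebra
    (Algebra.TensorProduct.productMap
      ({ (Algebra.TensorProduct.includeLeftRingHom : A' →+* A' ⊗[k'] A').comp σ with commutes' := fun r => rfl } :
        A →ₐ[k] A' ⊗[k'] A')
      ({ (Algebra.TensorProduct.includeRight : A' →ₐ[k'] A' ⊗[k'] A').toRingHom.comp σ with
        commutes' := fun r => by
          show (1 : A') ⊗ₜ[k'] σ (algebraMap k A r) = σ (algebraMap k A r) ⊗ₜ[k'] (1 : A')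
          rw [hbk, ← Algebra.TensorProduct.algebraMap_apply', Algebra.TensorProduct.algebraMap_apply] } :
        A →ₐ[k] A' ⊗[k'] A')).toRingHom
  have hggl : ∀ x, gg (x ⊗ₜ 1) = σ x ⊗ₜ 1 := fun x => by
    show (σ x ⊗ₜ[k'] (1 : A')) * ((1 : A') ⊗ₜ[k'] σ 1) = _
    rw [map_one, Algebra.TensorProduct.tmul_mul_tmul, mul_one, one_mul]
  have hggr : ∀ x, gg (1 ⊗ₜ x) = 1 ⊗ₜ σ x := fun x => by
    show (σ 1 ⊗ₜ[k'] (1 : A')) * ((1 : A') ⊗ₜ[k'] σ x) = _
    rw [map_one, Algebra.TensorProduct.tmul_mul_tmul, mul_one, one_mul]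
  let J := KaehlerDifferential.ideal k A
  let J' := KaehlerDifferential.ideal k' A'
  have hggJ : J.map gg ≤ J' := by
    refine Ideal.map_le_iff_le_comap.2 fun q hq => ?_
    show Algebra.TensorProduct.lmul' k' (S := A') (gg q) = 0
    have h : ∀ q, Algebra.TensorProduct.lmul' k' (S := A') (gg q) = σ (Algebra.TensorProduct.lmul' k (S := A) q) := by
      intro q
      induction q using TensorProduct.induction_on with
      | zero => simp only [map_zero]
      | add x y hx hy => simp only [map_add, hx, hy]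
      | tmul x y =>
        rw [show x ⊗ₜ[k] y = (x ⊗ₜ[k] (1 : A)) * ((1 : A) ⊗ₜ[k] y) by simp, map_mul, map_mul, map_mul, map_mul,
          hggl, hggr]
        simp
    rw [h, show Algebra.TensorProduct.lmul' k (S := A) q = 0 from hq, map_zero]
  have hgg : RingHom.ker ψ ≤ RingHom.ker (ψ'.comp gg) := by
    rw [hψk, ← RingHom.comap_ker, hψk', ← Ideal.map_le_iff_le_comap, Ideal.map_pow]
    exact Ideal.pow_right_mono hggJ _
  let g : O →+* O' := ψ.liftOfSurjective hψ ⟨ψ'.comp gg, hgg⟩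
  have hg : ∀ q, g (ψ q) = ψ' (gg q) := fun q => ψ.liftOfRightInverse_comp_apply _ _ _ q
  letI : Algebra A O' := ((ψ'.comp Algebra.TensorProduct.includeLeftRingHom).comp σ).toAlgebra
  let Φ : R →+* O' := (Algebra.TensorProduct.productMap
    ({ ψ'.comp Algebra.TensorProduct.includeLeftRingHom with commutes' := fun x => rfl } : A' →ₐ[A] O')
    ({ g with
        commutes' := fun x => by
          show g (ψ (x ⊗ₜ 1)) = ψ' (σ x ⊗ₜ 1)
          rw [hg, hggl] } : O →ₐ[A] O')).toRingHom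
  have hΦl : ∀ a', Φ (a' ⊗ₜ[A] (1 : O)) = ψ' (a' ⊗ₜ 1) := fun a' => by
    show ψ' (a' ⊗ₜ 1) * g 1 = _
    rw [map_one, mul_one]
  have hΦr : ∀ x : A, Φ (1 ⊗ₜ[A] ψ (1 ⊗ₜ x)) = ψ' (1 ⊗ₜ σ x) := fun x => by
    show ψ' ((1 : A') ⊗ₜ 1) * g (ψ (1 ⊗ₜ x)) = _
    rw [hg, hggr, ← map_mul, Algebra.TensorProduct.tmul_mul_tmul, one_mul, one_mul]
  refine ⟨Φ, ?_, hΦl, hΦr⟩
  -- the augmentation
  have hμ : RingHom.ker ψ ≤ RingHom.ker (Algebra.TensorProduct.lmul' k (S := A)).toRingHom := by
    rw [hψk]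
    exact Ideal.pow_le_self (Nat.succ_ne_zero n)
  let μ : O →+* A := ψ.liftOfSurjective hψ ⟨(Algebra.TensorProduct.lmul' k (S := A)).toRingHom, hμ⟩
  have hμψ : ∀ q, μ (ψ q) = Algebra.TensorProduct.lmul' k (S := A) q :=
    fun q => ψ.liftOfRightInverse_comp_apply _ _ _ q
  let aug : R →+* A' := (Algebra.TensorProduct.productMap (AlgHom.id A A')
    ({ σ.comp μ with
        commutes' := fun x => by
          show σ (μ (ψ (x ⊗ₜ 1))) = σ x
          rw [hμψ]; simp } : O →ₐ[A] A')).toRingHom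
  have haug : ∀ a' o, aug (a' ⊗ₜ o) = a' * σ (μ o) := fun _ _ => rfl
  let N : Ideal R := (RingHom.ker μ).map (Algebra.TensorProduct.includeRight : O →ₐ[A] R).toRingHom
  have hNnil : N ^ (n + 1) = ⊥ := by
    have h1 : RingHom.ker μ ≤ J.map ψ := by
      intro o ho
      obtain ⟨q, rfl⟩ := hψ o
      exact Ideal.mem_map_of_mem ψ ((hμψ q).symm.trans ho)
    have h2 := Ideal.pow_right_mono h1 (n + 1)
    rw [← Ideal.map_pow, show (J ^ (n + 1)).map ψ = ⊥ from
      (Ideal.map_eq_bot_iff_le_ker _).2 hψk.symm.le, le_bot_iff] at h2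
    show ((RingHom.ker μ).map _) ^ (n + 1) = ⊥
    rw [← Ideal.map_pow, h2, Ideal.map_bot]
  have hN : ∀ t, t - aug t ⊗ₜ[A] (1 : O) ∈ N := by
    intro t
    induction t using TensorProduct.induction_on with
    | zero => simp only [map_zero, TensorProduct.zero_tmul, sub_zero]; exact N.zero_mem
    | add x y hx hy =>
      rw [map_add, TensorProduct.add_tmul]
      convert N.add_mem hx hy using 1
      abel
    | tmul a' o =>
      have h3 : o - algebraMap A O (μ o) ∈ RingHom.ker μ := by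
        show μ (o - ψ (μ o ⊗ₜ 1)) = 0
        rw [map_sub, hμψ]; simp
      have h4 := N.mul_mem_left (a' ⊗ₜ[A] (1 : O))
        (Ideal.mem_map_of_mem (Algebra.TensorProduct.includeRight : O →ₐ[A] R).toRingHom h3)
      convert h4 using 1
      show _ = (a' ⊗ₜ[A] (1 : O)) * ((1 : A') ⊗ₜ[A] (o - algebraMap A O (μ o)))
      rw [Algebra.TensorProduct.tmul_mul_tmul, mul_one, one_mul, TensorProduct.tmul_sub, haug,
        show a' * σ (μ o) = μ o • a' by rw [Algebra.smul_def, mul_comm], TensorProduct.smul_tmul,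
        ← Algebra.algebraMap_eq_smul_one]
  -- the inverse
  let l : B ⟶ CommRingCat.of R := CommRingCat.ofHom
    (((Algebra.TensorProduct.includeRight : O →ₐ[A] R).toRingHom.comp
      (ψ.comp (Algebra.TensorProduct.includeRight : A →ₐ[k] A ⊗[k] A).toRingHom)).comp (algebraMap B A))
  let r : k' ⟶ CommRingCat.of R := CommRingCat.ofHom
    ((Algebra.TensorProduct.includeLeftRingHom : A' →+* R).comp (algebraMap k' A'))
  have hlr : a ≫ l = b ≫ r := by
    refine CommRingCat.hom_ext (RingHom.ext fun x => ?_)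
    show (1 : A') ⊗ₜ[A] ψ (1 ⊗ₜ algebraMap B A (a x)) = algebraMap k' A' (b x) ⊗ₜ[A] (1 : O)
    rw [hk, ← Algebra.TensorProduct.algebraMap_apply', Algebra.TensorProduct.algebraMap_apply, ← hbk,
      show ψ (algebraMap k A x ⊗ₜ 1) = algebraMap A O (algebraMap k A x) from rfl,
      ← Algebra.TensorProduct.algebraMap_apply', Algebra.TensorProduct.algebraMap_apply]
  let rC : C →+* R := (hpush.desc l r hlr).hom
  have hrC₁ : ∀ x, rC (c x) = (1 : A') ⊗ₜ[A] ψ (1 ⊗ₜ algebraMap B A x) := fun x =>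
    congr($(hpush.inl_desc l r hlr) x)
  have hrC₂ : ∀ x, rC (d x) = algebraMap k' A' x ⊗ₜ[A] (1 : O) := fun x =>
    congr($(hpush.inr_desc l r hlr) x)
  have hrCaug : ∀ s, aug (rC s) = algebraMap C A' s := by
    have h : CommRingCat.ofHom rC ≫ CommRingCat.ofHom aug = CommRingCat.ofHom (algebraMap C A') := by
      refine hpush.hom_ext ?_ ?_ <;> refine CommRingCat.hom_ext (RingHom.ext fun x => ?_)
      · show aug (rC (c x)) = algebraMap C A' (c x)
        rw [hrC₁, haug, hμψ, ← hc]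
        simp [σ]
      · show aug (rC (d x)) = algebraMap C A' (d x)
        rw [hrC₂, haug, hk']
        simp
    exact fun s => congr($h s)
  have hunit : ∀ s : M, IsUnit (rC s) := by
    intro s
    obtain ⟨v, hv⟩ := IsLocalization.map_units A' s
    have hvu : IsUnit ((v : A') ⊗ₜ[A] (1 : O)) := v.isUnit.map (Algebra.TensorProduct.includeLeftRingHom : A' →+* R)
    have h5 := hN (rC s)
    rw [hrCaug, ← hv] at h5
    have hnil : IsNilpotent (rC s - (v : A') ⊗ₜ[A] (1 : O)) := ⟨n + 1, by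
      have := Ideal.pow_mem_pow h5 (n + 1)
      rwa [hNnil, Ideal.mem_bot] at this⟩
    have h6 := IsNilpotent.isUnit_add_left_of_commute hnil hvu (Commute.all _ _)
    rwa [add_sub_cancel] at h6
  let r₂ : A' →+* R := IsLocalization.lift hunit
  have hr₂ : ∀ s, r₂ (algebraMap C A' s) = rC s := fun s => IsLocalization.lift_eq hunit s
  letI : Algebra k' R := ((Algebra.TensorProduct.includeLeftRingHom : A' →+* R).comp (algebraMap k' A')).toAlgebra
  let Λ : A' ⊗[k'] A' →+* R := (Algebra.TensorProduct.productMap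
    ({ (Algebra.TensorProduct.includeLeftRingHom : A' →+* R) with commutes' := fun x => rfl } : A' →ₐ[k'] R)
    ({ r₂ with
        commutes' := fun x => by
          show r₂ (algebraMap k' A' x) = algebraMap k' A' x ⊗ₜ[A] (1 : O)
          rw [← hk', hr₂, hrC₂, hk'] } : A' →ₐ[k'] R)).toRingHom
  have hΛl : ∀ a', Λ (a' ⊗ₜ 1) = a' ⊗ₜ[A] (1 : O) := fun a' => by
    show (a' ⊗ₜ[A] (1 : O)) * r₂ 1 = _
    rw [map_one, mul_one]
  have hΛr : ∀ a', Λ (1 ⊗ₜ a') = r₂ a' := fun a' => by
    show ((1 : A') ⊗ₜ[A] (1 : O)) * r₂ a' = _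
    rw [← Algebra.TensorProduct.one_def, one_mul]
  have hΛJ : J'.map Λ ≤ N := by
    refine Ideal.map_le_iff_le_comap.2 fun q hq => ?_
    have h : ∀ q, aug (Λ q) = Algebra.TensorProduct.lmul' k' (S := A') q := by
      have hr2a : ∀ a', aug (r₂ a') = a' := by
        have : aug.comp r₂ = RingHom.id A' := IsLocalization.ringHom_ext M (RingHom.ext fun s => by
          show aug (r₂ (algebraMap C A' s)) = _
          rw [hr₂, hrCaug]; rfl)
        exact fun a' => RingHom.congr_fun this a'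
      intro q
      induction q using TensorProduct.induction_on with
      | zero => simp only [map_zero]
      | add x y hx hy => simp only [map_add, hx, hy]
      | tmul x y =>
        rw [show x ⊗ₜ[k'] y = (x ⊗ₜ[k'] (1 : A')) * ((1 : A') ⊗ₜ[k'] y) by simp, map_mul, map_mul, map_mul,
          hΛl, hΛr, haug, hr2a]
        simp
    have h7 := hN (Λ q)
    rwa [h, show Algebra.TensorProduct.lmul' k' (S := A') q = 0 from hq, TensorProduct.zero_tmul, sub_zero] at h7
  have hΛ : RingHom.ker ψ' ≤ RingHom.ker Λ := by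
    rw [hψk']
    refine Ideal.le_comap_pow Λ (n + 1) |>.trans' (Ideal.pow_right_mono (Ideal.map_le_iff_le_comap.1 hΛJ) _) |>.trans ?_
    rw [hNnil]; exact le_refl _
  let χ : O' →+* R := ψ'.liftOfSurjective hψ' ⟨Λ, hΛ⟩
  have hχ : ∀ q, χ (ψ' q) = Λ q := fun q => ψ'.liftOfRightInverse_comp_apply _ _ _ q
  have hΦr₂ : ∀ a', Φ (r₂ a') = ψ' (1 ⊗ₜ a') := by
    have h0 : CommRingCat.ofHom rC ≫ CommRingCat.ofHom Φ = CommRingCat.ofHom
        ((ψ'.comp (Algebra.TensorProduct.includeRight : A' →ₐ[k'] A' ⊗[k'] A').toRingHom).comp (algebraMap C A')) := by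
      refine hpush.hom_ext ?_ ?_ <;> refine CommRingCat.hom_ext (RingHom.ext fun x => ?_)
      · show Φ (rC (c x)) = ψ' (1 ⊗ₜ algebraMap C A' (c x))
        rw [hrC₁, hΦr, ← hc]
      · show Φ (rC (d x)) = ψ' (1 ⊗ₜ algebraMap C A' (d x))
        rw [hrC₂, hΦl, hk', ← Algebra.TensorProduct.algebraMap_apply', Algebra.TensorProduct.algebraMap_apply]
    have : Φ.comp r₂ = ψ'.comp (Algebra.TensorProduct.includeRight : A' →ₐ[k'] A' ⊗[k'] A').toRingHom :=
      IsLocalization.ringHom_ext M (RingHom.ext fun s => by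
        show Φ (r₂ (algebraMap C A' s)) = _
        rw [hr₂]
        exact congr($h0 s))
    exact fun a' => RingHom.congr_fun this a'
  have hr₂σ : ∀ x : A, r₂ (σ x) = (1 : A') ⊗ₜ[A] ψ (1 ⊗ₜ x) := by
    have : r₂.comp σ = (Algebra.TensorProduct.includeRight : O →ₐ[A] R).toRingHom.comp
        (ψ.comp (Algebra.TensorProduct.includeRight : A →ₐ[k] A ⊗[k] A).toRingHom) :=
      IsLocalization.ringHom_ext M₀ (RingHom.ext fun s => by
        show r₂ (σ (algebraMap B A s)) = _
        rw [hc, hr₂, hrC₁]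
        rfl)
    exact fun x => RingHom.congr_fun this x
  refine ⟨Function.LeftInverse.injective (g := χ) fun t => ?_, Function.RightInverse.surjective (g := χ) fun o => ?_⟩
  · induction t using TensorProduct.induction_on with
    | zero => simp only [map_zero]
    | add x y hx hy => simp only [map_add, hx, hy]
    | tmul a' o =>
      obtain ⟨q, rfl⟩ := hψ o
      induction q using TensorProduct.induction_on with
      | zero => simp only [map_zero, TensorProduct.tmul_zero]
      | add x y hx hy => simp only [map_add, TensorProduct.tmul_add, hx, hy]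
      | tmul x y =>
        have h8 : a' ⊗ₜ[A] ψ (x ⊗ₜ y) = ((a' * σ x) ⊗ₜ[A] (1 : O)) * ((1 : A') ⊗ₜ[A] ψ (1 ⊗ₜ y)) := by
          rw [Algebra.TensorProduct.tmul_mul_tmul, mul_one, one_mul,
            show x ⊗ₜ[k] y = (x ⊗ₜ[k] (1 : A)) * ((1 : A) ⊗ₜ[k] y) by simp, map_mul,
            show ψ (x ⊗ₜ 1) = algebraMap A O x from rfl, ← Algebra.smul_def, ← TensorProduct.smul_tmul,
            Algebra.smul_def, mul_comm]
        rw [h8, map_mul, map_mul, hΦl, hΦr, hχ, hχ, hΛl, hΛr, hr₂σ]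
  · obtain ⟨q, rfl⟩ := hψ' o
    rw [hχ]
    induction q using TensorProduct.induction_on with
    | zero => simp only [map_zero]
    | add x y hx hy => simp only [map_add, hx, hy]
    | tmul x y =>
      rw [show x ⊗ₜ[k'] y = (x ⊗ₜ[k'] (1 : A')) * ((1 : A') ⊗ₜ[k'] y) by simp, map_mul, map_mul, hΛl, hΛr, hΦl,
        hΦr₂, ← map_mul]

end Groth.Agent.PrinLib
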