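import Mathlib.RingTheory.Kaehler.Basic
import Mathlib.Algebra.BigOperators.Fin

/-!
# The algebra of the alternating-sum criterion for differential operators
-/

set_option autoImplicit false
set_option linter.style.haveILetI false
universe u v

open scoped TensorProduct

noncomputable section

namespace Groth.Agent.PrinLib.DiffAlg

variable {k : Type v} {R M N P : Type u} [CommRing k] [CommRing R] [Algebra k R] [AddCommGroup M] [Module R M] [Module k M]
  [IsScalarTower k R M] [AddCommGroup N] [Module R N] [Module k N] [IsScalarTower k R N]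
  [AddCommGroup P] [Module R P] [Module k P] [IsScalarTower k R P]

/-- `a ⊗ b ↦ a • D (b • m)`. -/
def ev (D : M →ₗ[k] N) (m : M) : R ⊗[k] R →ₗ[k] N :=
  TensorProduct.lift (LinearMap.mk₂ k (fun a b => a • D (b • m)) (fun a a' b => add_smul a a' _)
    (fun c a b => smul_assoc c a _) (fun a b b' => by rw [add_smul, map_add, smul_add])
    (fun c a b => by rw [smul_assoc, map_smul, smul_comm]))

theorem ev_tmul (D : M →ₗ[k] N) (m : M) (a b : R) : ev D m (a ⊗ₜ b) = a • D (b • m) :=
  TensorProduct.lift.tmul a b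

theorem ev_mul_tmul (D : M →ₗ[k] N) (m : M) (a b : R) (q : R ⊗[k] R) :
    ev D m ((a ⊗ₜ b) * q) = a • ev D (b • m) q := by
  induction q using TensorProduct.induction_on with
  | zero => simp
  | add x y hx hy => simp only [mul_add, map_add, hx, hy, smul_add]
  | tmul c d => rw [Algebra.TensorProduct.tmul_mul_tmul, ev_tmul, ev_tmul, smul_smul, smul_smul, mul_comm d b]

theorem ev_add (D : M →ₗ[k] N) (m m' : M) (q : R ⊗[k] R) : ev D (m + m') q = ev D m q + ev D m' q := by
  induction q using TensorProduct.induction_on with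
  | zero => simp
  | add x y hx hy => simp only [map_add, hx, hy]; abel
  | tmul c d => simp only [ev_tmul, smul_add, map_add]

theorem ev_one (D : M →ₗ[k] N) (m : M) : ev D m (1 : R ⊗[k] R) = D m := by
  rw [Algebra.TensorProduct.one_def, ev_tmul, one_smul, one_smul]

/-- The ideal of elements killed by every `ev D m`. -/
def evKer (D : M →ₗ[k] N) : Ideal (R ⊗[k] R) where
  carrier := {q | ∀ m, ev D m q = 0}
  add_mem' := fun hx hy m => by rw [map_add, hx m, hy m, add_zero]
  zero_mem' := fun m => map_zero _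
  smul_mem' := fun c q hq => by
    intro m
    rw [smul_eq_mul]
    induction c using TensorProduct.induction_on generalizing m with
    | zero => rw [zero_mul, map_zero]
    | add x y hx hy => rw [add_mul, map_add, hx, hy, add_zero]
    | tmul a b => rw [ev_mul_tmul, hq, smul_zero]

/-- `1 ⊗ a - a ⊗ 1`. -/
def gen (a : R) : R ⊗[k] R := (1 : R) ⊗ₜ a - a ⊗ₜ (1 : R)

theorem ev_prod_gen {ι : Type} [Fintype ι] [DecidableEq ι] (D : M →ₗ[k] N) (m : M) (a : ι → R) :
    ev D m (∏ i, gen (k := k) (a i)) =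
      ∑ H : Finset ι, ((-1 : ℤ) ^ H.card) • ((∏ i ∈ H, a i) • D ((∏ i ∈ Hᶜ, a i) • m)) := by
  simp only [gen]
  rw [Finset.prod_sub, Finset.powerset_univ, map_sum]
  refine Finset.sum_congr rfl fun H _ => ?_
  have h1 : (∏ i ∈ Finset.univ \ H, (1 : R) ⊗ₜ[k] a i) = (1 : R) ⊗ₜ (∏ i ∈ Hᶜ, a i) := by
    rw [← Finset.compl_eq_univ_sdiff]
    exact (map_prod (Algebra.TensorProduct.includeRight : R →ₐ[k] R ⊗[k] R) a Hᶜ).symm
  have h2 : (∏ i ∈ H, a i ⊗ₜ[k] (1 : R)) = (∏ i ∈ H, a i) ⊗ₜ (1 : R) :=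
    (map_prod (Algebra.TensorProduct.includeLeft : R →ₐ[k] R ⊗[k] R) a H).symm
  rw [h1, h2, mul_assoc, Algebra.TensorProduct.tmul_mul_tmul, one_mul, mul_one,
    show ((-1 : R ⊗[k] R) ^ H.card) * ((∏ i ∈ H, a i) ⊗ₜ (∏ i ∈ Hᶜ, a i)) =
      ((-1 : ℤ) ^ H.card) • ((∏ i ∈ H, a i) ⊗ₜ[k] (∏ i ∈ Hᶜ, a i)) by rw [zsmul_eq_mul]; push_cast; rfl,
    map_zsmul, ev_tmul]

theorem span_pow_le {S : Type u} [CommRing S] {α : Type u} (g : α → S) (n : ℕ) (K : Ideal S)
    (h : ∀ a : Fin n → α, ∏ i, g (a i) ∈ K) : Ideal.span (Set.range g) ^ n ≤ K := by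
  induction n generalizing K with
  | zero =>
    have h1 : (1 : S) ∈ K := by simpa using h Fin.elim0
    rw [(Ideal.eq_top_iff_one K).2 h1]
    exact le_top
  | succ n ih =>
    rw [pow_succ, Ideal.mul_le]
    intro q hq j hj
    induction hj using Submodule.span_induction with
    | mem j hj =>
      obtain ⟨b, rfl⟩ := hj
      have := ih (Submodule.comap (LinearMap.mulRight S (g b)) K) (fun a => by
        show (∏ i, g (a i)) * g b ∈ K
        have h1 := h (Fin.snoc a b)
        rwa [Fin.prod_univ_castSucc, Fin.snoc_last, funext (fun i => congrArg g (Fin.snoc_castSucc (α := fun _ => α) b a i))] at h1) hq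
      exact this
    | zero => rw [mul_zero]; exact zero_mem _
    | add x y _ _ hx hy => rw [mul_add]; exact add_mem hx hy
    | smul c x _ hx => rw [smul_eq_mul, mul_left_comm]; exact K.mul_mem_left c hx

theorem span_range_gen : Ideal.span (Set.range (gen (k := k) (R := R))) = KaehlerDifferential.ideal k R :=
  KaehlerDifferential.span_range_eq_ideal k R

/-- The alternating sums vanish iff `ev` kills the power of the diagonal ideal. -/
theorem pow_le_evKer (D : M →ₗ[k] N) (n : ℕ)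
    (h : ∀ (a : Fin n → R) (m : M),
      ∑ H : Finset (Fin n), ((-1 : ℤ) ^ H.card) • ((∏ i ∈ H, a i) • D ((∏ i ∈ Hᶜ, a i) • m)) = 0) :
    KaehlerDifferential.ideal k R ^ n ≤ evKer D := by
  rw [← span_range_gen]
  refine span_pow_le _ n _ fun a => ?_
  intro m
  rw [ev_prod_gen]
  exact h a m

/-- Operators killing the diagonal ideal to the powers `n + 1` and `n' + 1` compose to one killing it to
the power `n + n' + 1`. -/
theorem altSum_comp {ι : Type} [Fintype ι] [DecidableEq ι] (D : M →ₗ[k] N) (D' : N →ₗ[k] P) (n n' : ℕ)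
    (hD : KaehlerDifferential.ideal k R ^ (n + 1) ≤ evKer D)
    (hD' : KaehlerDifferential.ideal k R ^ (n' + 1) ≤ evKer D')
    (hcard : n + n' < Fintype.card ι) (a : ι → R) (m : M) :
    ∑ H : Finset ι, ((-1 : ℤ) ^ H.card) • ((∏ i ∈ H, a i) • D' (D ((∏ i ∈ Hᶜ, a i) • m))) = 0 := by
  let D'' := D'.comp D
  show ∑ H : Finset ι, ((-1 : ℤ) ^ H.card) • ((∏ i ∈ H, a i) • D'' ((∏ i ∈ Hᶜ, a i) • m)) = 0
  rw [← ev_prod_gen]
  let Ξ : R ⊗[k] (R ⊗[k] R) →ₗ[k] P :=
    TensorProduct.lift (LinearMap.mk₂ k (fun x q => x • D' (ev D m q)) (fun x x' q => add_smul x x' _)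
      (fun c x q => smul_assoc c x _) (fun x q q' => by rw [map_add, map_add, smul_add])
      (fun c x q => by rw [map_smul, map_smul, smul_comm]))
  let ρ₁ : R ⊗[k] R →ₐ[k] R ⊗[k] (R ⊗[k] R) :=
    Algebra.TensorProduct.map (AlgHom.id k R) Algebra.TensorProduct.includeLeft
  let ρ₂ : R ⊗[k] R →ₐ[k] R ⊗[k] (R ⊗[k] R) := Algebra.TensorProduct.includeRight
  let ρ : R ⊗[k] R →ₐ[k] R ⊗[k] (R ⊗[k] R) :=
    Algebra.TensorProduct.map (AlgHom.id k R) Algebra.TensorProduct.includeRight
  have hΞ : ∀ x q, Ξ (x ⊗ₜ q) = x • D' (ev D m q) := fun x q => TensorProduct.lift.tmul x q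
  have hρ : ∀ q, Ξ (ρ q) = ev D'' m q := by
    intro q
    induction q using TensorProduct.induction_on with
    | zero => simp only [map_zero]
    | add x y hx hy => simp only [map_add, hx, hy]
    | tmul x y =>
      show Ξ (x ⊗ₜ ((1 : R) ⊗ₜ y)) = _
      rw [hΞ, ev_tmul, ev_tmul, one_smul]
      rfl
  have h2 : ∀ q ∈ evKer D, ∀ c, Ξ (c * ρ₂ q) = 0 := by
    intro q hq c
    induction c using TensorProduct.induction_on with
    | zero => rw [zero_mul, map_zero]
    | add x y hx hy => rw [add_mul, map_add, hx, hy, add_zero]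
    | tmul x y =>
      show Ξ ((x ⊗ₜ y) * ((1 : R) ⊗ₜ q)) = 0
      rw [Algebra.TensorProduct.tmul_mul_tmul, hΞ, mul_one, (evKer D).mul_mem_left y hq m, map_zero, smul_zero]
  have h1 : ∀ q ∈ evKer D', ∀ c, Ξ (c * ρ₁ q) = 0 := by
    intro q hq c
    induction c using TensorProduct.induction_on with
    | zero => rw [zero_mul, map_zero]
    | add x y hx hy => rw [add_mul, map_add, hx, hy, add_zero]
    | tmul x w =>
      induction w using TensorProduct.induction_on with
      | zero => rw [TensorProduct.tmul_zero, zero_mul, map_zero]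
      | add v w hv hw => rw [TensorProduct.tmul_add, add_mul, map_add, hv, hw, add_zero]
      | tmul y z =>
        have key : ∀ r, Ξ ((x ⊗ₜ (y ⊗ₜ z)) * ρ₁ r) = ev D' (D (z • m)) ((x ⊗ₜ y) * r) := by
          intro r
          induction r using TensorProduct.induction_on with
          | zero => simp only [map_zero, mul_zero]
          | add a b ha hb => simp only [map_add, mul_add, ha, hb]
          | tmul a b =>
            show Ξ ((x ⊗ₜ (y ⊗ₜ z)) * (a ⊗ₜ (b ⊗ₜ (1 : R)))) = _
            rw [Algebra.TensorProduct.tmul_mul_tmul, Algebra.TensorProduct.tmul_mul_tmul,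
              Algebra.TensorProduct.tmul_mul_tmul, hΞ, ev_tmul, ev_tmul, mul_one, mul_smul y b]
        rw [key]
        exact (evKer D').mul_mem_left _ hq _
  rw [← hρ, map_prod]
  have hsplit : ∀ i, ρ (gen (k := k) (a i)) = ρ₂ (gen (k := k) (a i)) + ρ₁ (gen (k := k) (a i)) := fun i => by
    simp only [gen, map_sub]
    show (1 : R) ⊗ₜ[k] ((1 : R) ⊗ₜ[k] a i) - a i ⊗ₜ ((1 : R) ⊗ₜ (1 : R)) =
      ((1 : R) ⊗ₜ ((1 : R) ⊗ₜ a i) - (1 : R) ⊗ₜ (a i ⊗ₜ (1 : R))) +
        ((1 : R) ⊗ₜ (a i ⊗ₜ (1 : R)) - a i ⊗ₜ ((1 : R) ⊗ₜ (1 : R)))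
    abel
  rw [Finset.prod_congr rfl (fun i _ => hsplit i), Fintype.prod_add, map_sum]
  refine Finset.sum_eq_zero fun H _ => ?_
  have hmem : ∀ (s : Finset ι) (j : ℕ), j ≤ s.card →
      ∏ i ∈ s, gen (k := k) (a i) ∈ KaehlerDifferential.ideal k R ^ j := fun s j hj =>
    Ideal.pow_le_pow_right hj (by
      rw [← Finset.prod_const]
      exact Ideal.prod_mem_prod fun i _ => KaehlerDifferential.one_smul_sub_smul_one_mem_ideal k (a i))
  rcases Nat.lt_or_ge n H.card with hc | hc
  · rw [← map_prod, ← map_prod, mul_comm]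
    exact h2 _ (hD (hmem H (n + 1) hc)) _
  · rw [← map_prod, ← map_prod]
    refine h1 _ (hD' (hmem Hᶜ (n' + 1) ?_)) _
    rw [Finset.card_compl]
    omega

end Groth.Agent.PrinLib.DiffAlg
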