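import Groth.Agent.PrinLib.StalkMod
import Groth.Agent.PrinLib.DiffAlg

/-!
# The alternating-sum criterion for differential operators
-/

set_option autoImplicit false
set_option linter.style.haveILetI false
set_option backward.isDefEq.respectTransparency.types false
set_option backward.isDefEq.respectTransparency false
universe u

open CategoryTheory CategoryTheory.Limits AlgebraicGeometry TopologicalSpace Opposite
open scoped TensorProduct
open Groth.Agent.OmegaLib

noncomputable section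

namespace Groth.Agent.PrinLib

variable {X S : Scheme.{u}} (f : X ⟶ S) (n : ℕ)

/-- `D` commutes with multiplication by functions from the base. -/
def IsBaseLinear (F G : X.Modules) (D : F.presheaf ⟶ G.presheaf) : Prop :=
  ∀ (V : S.Opens) (s : Γ(S, V)) (U : X.Opens) (hU : U ≤ f ⁻¹ᵁ V) (t : Γ(F, U)),
    D.app (op U) (X.presheaf.map (homOfLE hU).op (f.app V s) • t) =
      X.presheaf.map (homOfLE hU).op (f.app V s) • D.app (op U) t

/-- The alternating sums of `D` of length `n + 1` vanish. -/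
def AltSumZero (F G : X.Modules) (D : F.presheaf ⟶ G.presheaf) : Prop :=
  ∀ (U : X.Opens) (a : Fin (n + 1) → Γ(X, U)) (t : Γ(F, U)),
    (∑ H : Finset (Fin (n + 1)),
      ((-1 : ℤ) ^ H.card) • ((∏ i ∈ H, a i) • D.app (op U) ((∏ i ∈ Hᶜ, a i) • t))) = 0

/-- `D` on sections, as a `ℤ`-linear map. -/
abbrev secLin {F G : X.Modules} (D : F.presheaf ⟶ G.presheaf) (U : X.Opens) : Γ(F, U) →ₗ[ℤ] Γ(G, U) :=
  ((D.app (op U)).hom : Γ(F, U) →+ Γ(G, U)).toIntLinearMap

theorem germ_pr1_app {U : X.Opens} {x : X} (hx : x ∈ U) (a : Γ(X, U)) :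
    (PrinPart.nbhd f n).presheaf.germ (PrinPart.pr1 f n ⁻¹ᵁ U) _ (mem_pr1_preimage f n hx)
        ((PrinPart.pr1 f n).app U a) =
      stalkMapAt (PrinPart.pr1 f n) (pr1_toNbhd_apply f n x) (X.presheaf.germ U x hx a) :=
  (stalkMapAt_germ _ _ U hx _ a).symm

theorem germ_pr2_appLE {U : X.Opens} {x : X} (hx : x ∈ U) (a : Γ(X, U)) :
    (PrinPart.nbhd f n).presheaf.germ (PrinPart.pr1 f n ⁻¹ᵁ U) _ (mem_pr1_preimage f n hx)
        ((PrinPart.pr2 f n).appLE U (PrinPart.pr1 f n ⁻¹ᵁ U) (PrinPart.preimage_pr1 f n U).le a) =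
      stalkMapAt (PrinPart.pr2 f n) (pr2_toNbhd_apply f n x) (X.presheaf.germ U x hx a) := by
  rw [Scheme.Hom.appLE, CommRingCat.comp_apply]
  exact ((PrinPart.nbhd f n).presheaf.germ_res_apply _ _ (mem_pr1_preimage f n hx) _).trans
    (stalkMapAt_germ _ _ U hx (mem_pr2_preimage f n hx) a).symm

theorem section_nbhd_ext {U : X.Opens} {r r' : Γ(PrinPart.nbhd f n, PrinPart.pr1 f n ⁻¹ᵁ U)}
    (h : ∀ (x : X) (hx : x ∈ U),
      (PrinPart.nbhd f n).presheaf.germ (PrinPart.pr1 f n ⁻¹ᵁ U) _ (mem_pr1_preimage f n hx) r =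
        (PrinPart.nbhd f n).presheaf.germ (PrinPart.pr1 f n ⁻¹ᵁ U) _ (mem_pr1_preimage f n hx) r') :
    r = r' := by
  refine TopCat.Presheaf.section_ext (PrinPart.nbhd f n).sheaf _ _ _ fun z hz => ?_
  obtain ⟨x, rfl⟩ := PrinPart.toInfNbhd_surjective (PrinPart.diagCl f) n z
  have hx : x ∈ U := by
    have h1 : PrinPart.pr1 f n (PrinPart.toNbhd f n x) ∈ U := hz
    rwa [pr1_toNbhd_apply] at h1
  exact h x hx

theorem isBaseLinear_of_isDiffOpLE {F G : X.Modules} {D : F.presheaf ⟶ G.presheaf}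
    (hD : PrinPart.IsDiffOpLE f F G n D) : IsBaseLinear f F G D := by
  obtain ⟨w, hw⟩ := hD
  intro V s U hU t
  rw [hw, hw, ← Scheme.Modules.Hom.app_smul, dP_smul]
  refine congrArg (w.app U) ?_
  refine congrArg
    (fun c : Γ(PrinPart.nbhd f n, PrinPart.pr1 f n ⁻¹ᵁ U) => c • secOf f n (PrinPart.dP f n F U t)) ?_
  refine section_nbhd_ext f n fun x hx => ?_
  refine (germ_pr2_appLE f n hx _).trans (Eq.trans ?_ (germ_pr1_app f n hx _).symm)
  rw [X.presheaf.germ_res_apply, stalkMapAt_germ _ _ (f ⁻¹ᵁ V) (hU hx) (mem_pr2_preimage f n (hU hx)),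
    stalkMapAt_germ _ _ (f ⁻¹ᵁ V) (hU hx) (mem_pr1_preimage f n (hU hx))]
  exact (germ_app_congr (PrinPart.pr1_comp f n) V _ (mem_pr1_preimage f n (hU hx))
    (mem_pr2_preimage f n (hU hx)) s).symm

theorem pow_le_evKer_of_isDiffOpLE {F G : X.Modules} {D : F.presheaf ⟶ G.presheaf}
    (hD : PrinPart.IsDiffOpLE f F G n D) (U : X.Opens) :
    KaehlerDifferential.ideal ℤ Γ(X, U) ^ (n + 1) ≤ DiffAlg.evKer (secLin D U) := by
  obtain ⟨w, hw⟩ := hD
  let R := Γ(X, U)
  let Λ : R ⊗[ℤ] R →ₐ[ℤ] Γ(PrinPart.nbhd f n, PrinPart.pr1 f n ⁻¹ᵁ U) :=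
    Algebra.TensorProduct.productMap ((PrinPart.pr1 f n).app U).hom.toIntAlgHom
      (((PrinPart.pr2 f n).appLE U (PrinPart.pr1 f n ⁻¹ᵁ U) (PrinPart.preimage_pr1 f n U).le).hom).toIntAlgHom
  intro q hq t
  have hev : ∀ q, DiffAlg.ev (secLin D U) t q =
      w.app U (show Γ(PrinPart.PMod f n F, U) from Λ q • secOf f n (PrinPart.dP f n F U t)) := by
    intro q
    induction q using TensorProduct.induction_on with
    | zero =>
      rw [map_zero, map_zero, zero_smul]
      exact (map_zero (w.app U).hom).symm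
    | add a b ha hb =>
      rw [map_add, ha, hb, map_add, add_smul]
      exact (map_add (w.app U).hom _ _).symm
    | tmul a b =>
      rw [DiffAlg.ev_tmul, show secLin D U (b • t) = D.app (op U) (b • t) from rfl, hw, dP_smul,
        ← Scheme.Modules.Hom.app_smul]
      refine congrArg (w.app U) ?_
      exact (mul_smul ((PrinPart.pr1 f n).app U a)
        ((PrinPart.pr2 f n).appLE U (PrinPart.pr1 f n ⁻¹ᵁ U) (PrinPart.preimage_pr1 f n U).le b)
        (secOf f n (PrinPart.dP f n F U t))).symm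
  rw [hev, show Λ q = 0 from ?_, zero_smul]
  · exact map_zero (w.app U).hom
  refine section_nbhd_ext f n fun x hx => ?_
  rw [map_zero]
  obtain ⟨T, hT, hxT, -⟩ := Opens.isBasis_iff_nbhd.mp S.isBasis_affineOpens (Opens.mem_top (f x))
  let k := Γ(S, T)
  let A := X.presheaf.stalk x
  letI : Algebra k A := (S.presheaf.germ T (f x) hxT ≫ f.stalkMap x).hom.toAlgebra
  obtain ⟨ψ, -, hψker, hψ1, hψ2⟩ := exists_stalkRing f n x hT hxT
  let g : R →+* A := (X.presheaf.germ U x hx).hom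
  let gg : R ⊗[ℤ] R →ₐ[ℤ] A ⊗[k] A :=
    Algebra.TensorProduct.productMap
      ((Algebra.TensorProduct.includeLeftRingHom : A →+* A ⊗[k] A).comp g).toIntAlgHom
      ((Algebra.TensorProduct.includeRight : A →ₐ[k] A ⊗[k] A).toRingHom.comp g).toIntAlgHom
  have hgerm : ∀ q, (PrinPart.nbhd f n).presheaf.germ (PrinPart.pr1 f n ⁻¹ᵁ U) _ (mem_pr1_preimage f n hx) (Λ q) =
      ψ (gg q) := by
    intro q
    induction q using TensorProduct.induction_on with
    | zero => simp only [map_zero]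
    | add a b ha hb => simp only [map_add, ha, hb]
    | tmul a b =>
      rw [show Λ (a ⊗ₜ b) = (PrinPart.pr1 f n).app U a *
        (PrinPart.pr2 f n).appLE U (PrinPart.pr1 f n ⁻¹ᵁ U) (PrinPart.preimage_pr1 f n U).le b from rfl,
        show gg (a ⊗ₜ b) = (g a ⊗ₜ[k] (1 : A)) * ((1 : A) ⊗ₜ[k] g b) from rfl, map_mul, map_mul, hψ1, hψ2,
        germ_pr1_app, germ_pr2_appLE]
  rw [hgerm, ← RingHom.mem_ker, hψker]
  have hle : (KaehlerDifferential.ideal ℤ R).map gg.toRingHom ≤ KaehlerDifferential.ideal k A := by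
    refine Ideal.map_le_iff_le_comap.2 ?_
    rw [← DiffAlg.span_range_gen, Ideal.span_le]
    rintro _ ⟨a, rfl⟩
    show gg ((1 : R) ⊗ₜ a - a ⊗ₜ (1 : R)) ∈ KaehlerDifferential.ideal k A
    rw [map_sub,
      show gg ((1 : R) ⊗ₜ a) = (g 1 ⊗ₜ[k] (1 : A)) * ((1 : A) ⊗ₜ[k] g a) from rfl,
      show gg (a ⊗ₜ (1 : R)) = (g a ⊗ₜ[k] (1 : A)) * ((1 : A) ⊗ₜ[k] g 1) from rfl,
      map_one, Algebra.TensorProduct.tmul_mul_tmul, Algebra.TensorProduct.tmul_mul_tmul, one_mul, one_mul,
      mul_one]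
    exact KaehlerDifferential.one_smul_sub_smul_one_mem_ideal k (g a)
  have h1 := Ideal.mem_map_of_mem gg.toRingHom hq
  rw [Ideal.map_pow] at h1
  exact Ideal.pow_right_mono hle _ h1

theorem altSumZero_of_isDiffOpLE {F G : X.Modules} {D : F.presheaf ⟶ G.presheaf}
    (hD : PrinPart.IsDiffOpLE f F G n D) : AltSumZero n F G D := by
  intro U a t
  have h : (∏ i, DiffAlg.gen (k := ℤ) (a i)) ∈ KaehlerDifferential.ideal ℤ Γ(X, U) ^ (n + 1) := by
    have h1 := Ideal.prod_mem_prod (s := (Finset.univ : Finset (Fin (n + 1))))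
      fun i _ => KaehlerDifferential.one_smul_sub_smul_one_mem_ideal ℤ (a i)
    rwa [Finset.prod_const, Finset.card_univ, Fintype.card_fin] at h1
  have h2 := pow_le_evKer_of_isDiffOpLE f n hD U h t
  rw [DiffAlg.ev_prod_gen] at h2
  exact h2

theorem isDiffOpLE_of_altSumZero {F G : X.Modules} {D : F.presheaf ⟶ G.presheaf}
    (hlin : IsBaseLinear f F G D) (halt : AltSumZero n F G D) : PrinPart.IsDiffOpLE f F G n D := by
  have key : ∀ x : X, ∃ L : (DerSch.stalkFunctor X x).obj (PrinPart.PMod f n F) →ₗ[X.presheaf.stalk x]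
      (DerSch.stalkFunctor X x).obj G,
      ∀ (W : X.Opens) (hW : x ∈ W) (t : Γ(F, W)),
        L (gm _ W x hW (PrinPart.dP f n F W t)) = gm G W x hW (D.app (op W) t) := by
    intro x
    obtain ⟨T, hT, hxT, -⟩ := Opens.isBasis_iff_nbhd.mp S.isBasis_affineOpens (Opens.mem_top (f x))
    let k := Γ(S, T)
    let A := X.presheaf.stalk x
    let Oz := (PrinPart.nbhd f n).presheaf.stalk (PrinPart.toNbhd f n x)
    let Fx := (DerSch.stalkFunctor X x).obj F
    let Gx := (DerSch.stalkFunctor X x).obj G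
    letI : Algebra k A := (S.presheaf.germ T (f x) hxT ≫ f.stalkMap x).hom.toAlgebra
    letI : Module k Fx := Module.compHom Fx (algebraMap k A)
    letI : Module k Gx := Module.compHom Gx (algebraMap k A)
    haveI : IsScalarTower k A Fx := .of_algebraMap_smul fun _ _ => rfl
    haveI : IsScalarTower k A Gx := .of_algebraMap_smul fun _ _ => rfl
    let D0 : Fx →+ Gx := ((TopCat.Presheaf.stalkFunctor AddCommGrpCat.{u} x).map D).hom
    have hD0 : ∀ (W : X.Opens) (hW : x ∈ W) (t : Γ(F, W)), D0 (gm F W x hW t) = gm G W x hW (D.app (op W) t) :=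
      fun W hW t => TopCat.Presheaf.stalkFunctor_map_germ_apply W x hW D t
    let Dx : Fx →ₗ[k] Gx :=
      { toFun := D0
        map_add' := map_add D0
        map_smul' := fun c m => by
          obtain ⟨U, hU, t, rfl⟩ := exists_gm _ m
          let W : X.Opens := U ⊓ f ⁻¹ᵁ T
          have hW : x ∈ W := ⟨hU, hxT⟩
          have hc : algebraMap k A c = X.presheaf.germ W x hW
              (X.presheaf.map (homOfLE (inf_le_right : W ≤ f ⁻¹ᵁ T)).op (f.app T c)) := by
            rw [X.presheaf.germ_res_apply]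
            exact Scheme.Hom.germ_stalkMap_apply f T x hxT c
          show D0 (algebraMap k A c • gm F U x hU t) = algebraMap k A c • D0 (gm F U x hU t)
          rw [← gm_res F hU (inf_le_left : W ≤ U) hW, hc, ← gm_smul, hD0, hD0, ← gm_smul]
          exact congrArg (gm G W x hW) (hlin T c W inf_le_right _) }
    obtain ⟨ψ, hψs, hψker, hψ1, hψ2⟩ := exists_stalkRing f n x hT hxT
    have hK : KaehlerDifferential.ideal k A ^ (n + 1) ≤ DiffAlg.evKer Dx := by
      refine DiffAlg.pow_le_evKer Dx (n + 1) fun a m => ?_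
      choose U hU r hr using fun i => X.presheaf.exists_germ_eq (x := x) (a i)
      obtain ⟨U0, hU0, t, rfl⟩ := exists_gm _ m
      let W : X.Opens := U0 ⊓ Finset.univ.inf U
      have hW : x ∈ W := ⟨hU0, by
        show x ∈ ((Finset.univ.inf U : X.Opens) : Set X)
        rw [Opens.coe_finset_inf, Finset.inf_set_eq_iInter]
        exact Set.mem_iInter₂.2 fun i _ => hU i⟩
      have hWi : ∀ i, W ≤ U i := fun i => inf_le_right.trans (Finset.inf_le (Finset.mem_univ i))
      let b : Fin (n + 1) → Γ(X, W) := fun i => X.presheaf.map (homOfLE (hWi i)).op (r i)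
      let t' := F.presheaf.map (homOfLE (inf_le_left : W ≤ U0)).op t
      have hb : ∀ H : Finset (Fin (n + 1)), ∏ i ∈ H, a i = X.presheaf.germ W x hW (∏ i ∈ H, b i) := fun H => by
        rw [map_prod]
        exact Finset.prod_congr rfl fun i _ => ((hr i).symm.trans (X.presheaf.germ_res_apply _ x hW _).symm)
      have h2 : ∀ H : Finset (Fin (n + 1)),
          ((-1 : ℤ) ^ H.card) • ((∏ i ∈ H, a i) • Dx ((∏ i ∈ Hᶜ, a i) • gm F U0 x hU0 t)) =
            gm G W x hW (((-1 : ℤ) ^ H.card) • ((∏ i ∈ H, b i) • D.app (op W) ((∏ i ∈ Hᶜ, b i) • t'))) := by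
        intro H
        rw [hb, hb, ← gm_res F hU0 (inf_le_left : W ≤ U0) hW, ← gm_smul]
        show _ • (_ • D0 _) = _
        rw [hD0, ← gm_smul]
        exact (map_zsmul (G.presheaf.germ W x hW).hom _ _).symm
      rw [Finset.sum_congr rfl fun H _ => h2 H]
      refine (map_sum (G.presheaf.germ W x hW).hom _ _).symm.trans ?_
      exact (congrArg (gm G W x hW) (halt W b t')).trans (gm_zero _ _)
    choose σ hσ using hψs
    have hwd : ∀ (m : Fx) q, DiffAlg.ev Dx m (σ (ψ q)) = DiffAlg.ev Dx m q := fun m q => by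
      rw [← sub_eq_zero, ← map_sub]
      refine hK ?_ m
      rw [← hψker, RingHom.mem_ker, map_sub, hσ, sub_self]
    letI : Algebra A Oz := (stalkMapAt (PrinPart.pr2 f n) (pr2_toNbhd_apply f n x)).hom.toAlgebra
    let Θ : Oz →+ Fx →+ Gx := AddMonoidHom.mk'
      (fun o => AddMonoidHom.mk' (fun m => DiffAlg.ev Dx m (σ o)) fun m m' => DiffAlg.ev_add Dx m m' _)
      fun o o' => by
        ext m
        show DiffAlg.ev Dx m (σ (o + o')) = DiffAlg.ev Dx m (σ o) + DiffAlg.ev Dx m (σ o')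
        rw [← map_add, show o + o' = ψ (σ o + σ o') by rw [map_add, hσ, hσ], hwd]
    have hbal : ∀ (a : A) (o : Oz) (m : Fx), Θ (a • o) m = Θ o (a • m) := by
      intro a o m
      obtain ⟨q, rfl⟩ : ∃ q, ψ q = o := ⟨σ o, hσ o⟩
      show DiffAlg.ev Dx m (σ (a • ψ q)) = DiffAlg.ev Dx (a • m) (σ (ψ q))
      rw [Algebra.smul_def,
        show algebraMap A Oz a * ψ q = ψ (((1 : A) ⊗ₜ a) * q) by rw [map_mul, hψ2]; rfl, hwd, hwd,
        DiffAlg.ev_mul_tmul, one_smul]
    let L0 : Oz ⊗[A] Fx →+ Gx := TensorProduct.liftAddHom Θ hbal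
    obtain ⟨E, hE, hEs⟩ := exists_PMod_stalk f n F x
    refine ⟨{ toFun := fun p => L0 (E p)
              map_add' := fun p p' => by rw [map_add, map_add]
              map_smul' := fun a p => ?_ }, fun W hW t => ?_⟩
    · rw [RingHom.id_apply, hEs]
      generalize E p = y
      induction y using TensorProduct.induction_on with
      | zero => rw [smul_zero, map_zero, smul_zero]
      | add y y' hy hy' => rw [smul_add, map_add, map_add, hy, hy', smul_add]
      | tmul o m =>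
        obtain ⟨q, rfl⟩ : ∃ q, ψ q = o := ⟨σ o, hσ o⟩
        rw [TensorProduct.smul_tmul', smul_eq_mul,
          show stalkMapAt (PrinPart.pr1 f n) (pr1_toNbhd_apply f n x) a * ψ q = ψ ((a ⊗ₜ (1 : A)) * q) by
            rw [map_mul, hψ1]]
        show DiffAlg.ev Dx m (σ (ψ ((a ⊗ₜ (1 : A)) * q))) = a • DiffAlg.ev Dx m (σ (ψ q))
        rw [hwd, hwd, DiffAlg.ev_mul_tmul, one_smul]
    · show L0 (E _) = _
      rw [hE]
      show DiffAlg.ev Dx _ (σ (1 : Oz)) = _
      rw [← map_one ψ, hwd, DiffAlg.ev_one]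
      exact hD0 W hW t
  choose L hL using key
  obtain ⟨w, hw⟩ := exists_hom_of_stalks L fun U s x hx => by
    obtain ⟨W, hWU, hxW, hmem⟩ := exists_res_mem_spanDP f n F U s hx
    refine ⟨W, hWU, hxW, ?_⟩
    have h : ∀ v ∈ spanDP f n F W, ∃ t : Γ(G, W), ∀ (y : X) (hy : y ∈ W), L y (gm _ W y hy v) = gm G W y hy t := by
      intro v hv
      induction hv using Submodule.span_induction with
      | mem v hv =>
        obtain ⟨t, rfl⟩ := hv
        exact ⟨D.app (op W) t, fun y hy => hL y W hy t⟩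
      | zero => exact ⟨0, fun y hy => by rw [gm_zero, map_zero, gm_zero]⟩
      | add a b _ _ ha hb =>
        obtain ⟨p, hp⟩ := ha
        obtain ⟨q, hq⟩ := hb
        exact ⟨p + q, fun y hy => by rw [gm_add, map_add, hp, hq, gm_add]⟩
      | smul r v _ hv =>
        obtain ⟨p, hp⟩ := hv
        exact ⟨r • p, fun y hy => by rw [gm_smul, map_smul, hp, gm_smul]⟩
    obtain ⟨t, ht⟩ := h _ hmem
    exact ⟨t, fun y hy => by rw [← ht y hy, gm_res _ (hWU hy) hWU hy]⟩
  refine ⟨w, fun U t => ?_⟩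
  refine TopCat.Presheaf.section_ext ⟨G.presheaf, G.isSheaf⟩ U _ _ fun x hx => ?_
  exact ((hw U _ x hx).trans (hL x U hx t)).symm

/-- Composition of differential operators. -/
theorem isDiffOpLE_comp (F G H : X.Modules) (n n' : ℕ) (D : F.presheaf ⟶ G.presheaf) (D' : G.presheaf ⟶ H.presheaf)
    (hD : PrinPart.IsDiffOpLE f F G n D) (hD' : PrinPart.IsDiffOpLE f G H n' D') :
    PrinPart.IsDiffOpLE f F H (n + n') (D ≫ D') := by
  refine isDiffOpLE_of_altSumZero f _ (fun V s U hU t => ?_) fun U a t => ?_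
  · show D'.app (op U) (D.app (op U) _) = _ • D'.app (op U) (D.app (op U) t)
    rw [isBaseLinear_of_isDiffOpLE f n hD V s U hU, isBaseLinear_of_isDiffOpLE f n' hD' V s U hU]
  · exact DiffAlg.altSum_comp (secLin D U) (secLin D' U) n n' (pow_le_evKer_of_isDiffOpLE f n hD U)
      (pow_le_evKer_of_isDiffOpLE f n' hD' U) (by rw [Fintype.card_fin]; omega) a t

end Groth.Agent.PrinLib
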