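import Groth.Agent.PrinLib.StalkMod
import Groth.Agent.DCat.FlatPull
import Groth.Agent.ModStalk.Exact
import Groth.Prelude.Def_FlatMod2
import Mathlib.Algebra.Category.ModuleCat.ChangeOfRings

/-!
# Exactness properties of the functor of principal parts
-/

set_option autoImplicit false
set_option linter.style.haveILetI false
set_option backward.isDefEq.respectTransparency.types false
set_option backward.isDefEq.respectTransparency false
universe u

open CategoryTheory CategoryTheory.Limits AlgebraicGeometry TopologicalSpace Opposite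
open scoped TensorProduct
open Groth.Agent.OmegaLib

noncomputable section

namespace Groth.Agent.PrinLib

variable {X S : Scheme.{u}} (f : X ⟶ S) (n : ℕ)

/-- The stalk functor at `x` after `pr₁_*` is the stalk functor at `Δ x`, up to restriction of scalars. -/
theorem nonempty_pushStalk_natIso (x : X) :
    Nonempty (Scheme.Modules.pushforward (PrinPart.pr1 f n) ⋙ DerSch.stalkFunctor X x ≅
      DerSch.stalkFunctor (PrinPart.nbhd f n) (PrinPart.toNbhd f n x) ⋙
        ModuleCat.restrictScalars (stalkMapAt (PrinPart.pr1 f n) (pr1_toNbhd_apply f n x)).hom) := by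
  choose E hE hEs using fun M => exists_pushStalk f n M x
  refine ⟨NatIso.ofComponents (fun M => LinearEquiv.toModuleIso
    (X₁ := (DerSch.stalkFunctor X x).obj ((Scheme.Modules.pushforward (PrinPart.pr1 f n)).obj M))
    (X₂ := (ModuleCat.restrictScalars (stalkMapAt (PrinPart.pr1 f n) (pr1_toNbhd_apply f n x)).hom).obj
      ((DerSch.stalkFunctor (PrinPart.nbhd f n) (PrinPart.toNbhd f n x)).obj M))
    { E M with map_smul' := fun a m => hEs M a m }) fun {M M'} g => ?_⟩
  refine ModuleCat.hom_ext (LinearMap.ext fun m => ?_)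
  obtain ⟨W, hW, s, rfl⟩ := exists_gm _ m
  show E M' ((DerSch.stalkFunctor X x).map ((Scheme.Modules.pushforward (PrinPart.pr1 f n)).map g)
    (gm _ W x hW s)) = (DerSch.stalkFunctor (PrinPart.nbhd f n) (PrinPart.toNbhd f n x)).map g (E M (gm _ W x hW s))
  rw [map_gm, hE, hE, map_gm]
  rfl

theorem preservesColimits_pushforward_pr1 :
    PreservesColimitsOfSize.{u, u} (Scheme.Modules.pushforward (PrinPart.pr1 f n)) where
  preservesColimitsOfShape {J} _ := ⟨fun {K} => ⟨fun {c} hc => by
    let F := Scheme.Modules.pushforward (PrinPart.pr1 f n)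
    let φ := (colimit.isColimit (K ⋙ F)).desc (F.mapCocone c)
    suffices IsIso φ from ⟨IsColimit.ofPointIso (colimit.isColimit (K ⋙ F))⟩
    refine ModStalk.isIso_of_stalks φ fun x => ?_
    obtain ⟨e⟩ := nonempty_pushStalk_natIso f n x
    haveI : PreservesColimit K (F ⋙ DerSch.stalkFunctor X x) := preservesColimit_of_natIso K e.symm
    let h1 := isColimitOfPreserves (DerSch.stalkFunctor X x) (colimit.isColimit (K ⋙ F))
    let h2 := isColimitOfPreserves (F ⋙ DerSch.stalkFunctor X x) hc
    have h : (DerSch.stalkFunctor X x).map φ = (h1.coconePointUniqueUpToIso h2).hom := by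
      refine h1.hom_ext fun j => ?_
      rw [IsColimit.comp_coconePointUniqueUpToIso_hom]
      show (DerSch.stalkFunctor X x).map _ ≫ (DerSch.stalkFunctor X x).map φ = _
      rw [← Functor.map_comp]
      exact congrArg (DerSch.stalkFunctor X x).map ((colimit.isColimit (K ⋙ F)).fac (F.mapCocone c) j)
    rw [h]
    infer_instance⟩⟩

theorem flat_pr2_of_isFlat (hP : FlatMod.IsFlat (PrinPart.P f n)) : Flat (PrinPart.pr2 f n) := by
  refine Flat.of_stalkMap _ fun z => ?_
  obtain ⟨x, rfl⟩ := PrinPart.toInfNbhd_surjective (PrinPart.diagCl f) n z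
  let π₁ := stalkMapAt (PrinPart.pr1 f n) (pr1_toNbhd_apply f n x)
  let π₂ := stalkMapAt (PrinPart.pr2 f n) (pr2_toNbhd_apply f n x)
  let A := X.presheaf.stalk x
  let Oz := (PrinPart.nbhd f n).presheaf.stalk (PrinPart.toNbhd f n x)
  have h1 : π₁.hom.Flat := by
    obtain ⟨E₁, -, hE₁s⟩ := exists_pushStalk f n
      ((Scheme.Modules.pullback (PrinPart.pr2 f n)).obj (Coh.structureModule X)) x
    obtain ⟨E₂, -⟩ := exists_pullback_stalk_equiv (𝟙 X) (Coh.structureModule X) x
    letI : Algebra A Oz := π₂.hom.toAlgebra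
    obtain ⟨E, -, hEs⟩ := exists_PMod_stalk f n (Coh.structureModule X) x
    let SM := Coh.structureModule X
    let L : A →ₗ[A] (DerSch.stalkFunctor X x).obj SM :=
      LinearMap.toSpanSingleton A _ (gm SM ⊤ x (Opens.mem_top x) (OmegaSh.strSect X ⊤ 1))
    have hL : ∀ (U : X.Opens) (hU : x ∈ U) (c : Γ(X, U)),
        L (X.presheaf.germ U x hU c) = gm SM U x hU (OmegaSh.strSect X U c) := fun U hU c => by
      show (X.presheaf.germ U x hU c : A) • gm SM ⊤ x (Opens.mem_top x) (OmegaSh.strSect X ⊤ 1) = _
      rw [← gm_res SM (Opens.mem_top x) (le_top : U ≤ ⊤) hU, ← gm_smul]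
      refine congrArg (gm SM U x hU) ?_
      show c * X.presheaf.map (homOfLE (le_top : U ≤ ⊤)).op 1 = c
      rw [map_one, mul_one]
    have hLb : Function.Bijective L := by
      refine ⟨(injective_iff_map_eq_zero L).2 fun r hr => ?_, fun m => ?_⟩
      · obtain ⟨U, hU, c, rfl⟩ := X.presheaf.exists_germ_eq (x := x) r
        rw [hL] at hr
        obtain ⟨W, hW, i, j, he⟩ := SM.presheaf.germ_eq x hU hU _ 0 (hr.trans (gm_zero SM hU).symm)
        have he' : X.presheaf.map i.op c = 0 := he.trans (map_zero _)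
        rw [← X.presheaf.germ_res_apply i x hW c, he', map_zero]
      · obtain ⟨U, hU, s, rfl⟩ := exists_gm SM m
        exact ⟨X.presheaf.germ U x hU (OmegaSh.fnSect X U s), hL U hU _⟩
    let eO : (DerSch.stalkFunctor X x).obj SM ≃ₗ[A] A := (LinearEquiv.ofBijective L hLb).symm
    let e : (DerSch.stalkFunctor X x).obj (PrinPart.P f n) ≃+ Oz :=
      E.trans (((LinearEquiv.baseChange A Oz _ _ eO).trans (TensorProduct.AlgebraTensorModule.rid A Oz Oz)).toAddEquiv)
    have he : ∀ (a : A) m, e (a • m) = π₁ a * e m := fun a m => by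
      show ((LinearEquiv.baseChange A Oz _ _ eO).trans (TensorProduct.AlgebraTensorModule.rid A Oz Oz)) (E (a • m)) = _
      rw [hEs, map_smul]
      rfl
    letI := π₁.hom.toAlgebra
    haveI : Module.Flat A ((DerSch.stalkFunctor X x).obj (PrinPart.P f n)) := hP x
    exact Module.Flat.of_linearEquiv (LinearEquiv.symm { e with map_smul' := fun a m => he a m })
  have h2 : π₂.hom.Flat := by
    obtain ⟨T, hT, hxT, -⟩ := Opens.isBasis_iff_nbhd.mp S.isBasis_affineOpens (Opens.mem_top (f x))
    letI : Algebra Γ(S, T) A := (S.presheaf.germ T (f x) hxT ≫ f.stalkMap x).hom.toAlgebra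
    obtain ⟨ψ, hψs, hψker, hψ1, hψ2⟩ := exists_stalkRing f n x hT hxT
    let J := KaehlerDifferential.ideal Γ(S, T) A
    let c := (Algebra.TensorProduct.comm Γ(S, T) A A).toRingEquiv
    have hc : ∀ q, c q ∈ J ↔ q ∈ J := by
      intro q
      show Algebra.TensorProduct.lmul' Γ(S, T) (S := A) (c q) = 0 ↔ Algebra.TensorProduct.lmul' Γ(S, T) (S := A) q = 0
      suffices Algebra.TensorProduct.lmul' Γ(S, T) (S := A) (c q) = Algebra.TensorProduct.lmul' Γ(S, T) (S := A) q by
        rw [this]
      induction q using TensorProduct.induction_on with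
      | zero => simp only [map_zero]
      | add a b ha hb => simp only [map_add, ha, hb]
      | tmul a b => simp [c, mul_comm]
    have hcJ : J.map c.toRingHom = J := by
      refine le_antisymm (Ideal.map_le_iff_le_comap.2 fun q hq => (hc q).2 hq) fun q hq => ?_
      obtain ⟨q, rfl⟩ := c.surjective q
      exact Ideal.mem_map_of_mem c.toRingHom ((hc q).1 hq)
    have hker : RingHom.ker (ψ.comp c.toRingHom) = RingHom.ker ψ := by
      rw [← RingHom.comap_ker, hψker]
      have hcm := Ideal.comap_map_of_bijective c.toRingHom c.bijective (I := J ^ (n + 1))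
      rwa [Ideal.map_pow, hcJ] at hcm
    let σ : Oz →+* Oz := ψ.liftOfSurjective hψs ⟨ψ.comp c.toRingHom, le_of_eq hker.symm⟩
    have hσ : ∀ q, σ (ψ q) = ψ (c q) := fun q => ψ.liftOfRightInverse_comp_apply _ _ _ q
    have hσb : Function.Bijective σ := by
      constructor
      · rw [injective_iff_map_eq_zero]
        intro o ho
        obtain ⟨q, rfl⟩ := hψs o
        rw [hσ] at ho
        exact RingHom.mem_ker.1 (hker ▸ (RingHom.mem_ker.2 ho : q ∈ RingHom.ker (ψ.comp c.toRingHom)))
      · intro o
        obtain ⟨q, rfl⟩ := hψs o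
        exact ⟨ψ (c.symm q), by rw [hσ, RingEquiv.apply_symm_apply]⟩
    have : π₂.hom = σ.comp π₁.hom := RingHom.ext fun a => by
      show π₂ a = σ (π₁ a)
      rw [← hψ1, ← hψ2, hσ]
      simp [c]
    rw [this]
    exact RingHom.Flat.comp h1 (RingHom.Flat.of_bijective hσb)
  have h3 : ((PrinPart.pr2 f n).stalkMap (PrinPart.toNbhd f n x)).hom =
      π₂.hom.comp (X.presheaf.stalkSpecializes (specializes_of_eq (pr2_toNbhd_apply f n x).symm)).hom := by
    rw [← CommRingCat.hom_comp]
    refine congrArg CommRingCat.Hom.hom ?_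
    show _ = X.presheaf.stalkSpecializes _ ≫ X.presheaf.stalkSpecializes _ ≫ _
    rw [TopCat.Presheaf.stalkSpecializes_comp_assoc, TopCat.Presheaf.stalkSpecializes_refl, Category.id_comp]
  rw [h3]
  haveI : IsIso (X.presheaf.stalkSpecializes (specializes_of_eq (pr2_toNbhd_apply f n x).symm)) :=
    inferInstanceAs (IsIso (X.presheaf.stalkCongr (Inseparable.of_eq (pr2_toNbhd_apply f n x))).hom)
  exact RingHom.Flat.comp (RingHom.Flat.of_bijective (ConcreteCategory.bijective_of_isIso _)) h2

end Groth.Agent.PrinLib
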