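import Groth.Prelude.Def_OmegaPn
import Groth.Agent.FSchLib.Systems

/-!
# Functoriality of infinitesimal neighbourhoods
-/

set_option autoImplicit false
universe u

open CategoryTheory CategoryTheory.Limits AlgebraicGeometry TopologicalSpace Opposite

noncomputable section

namespace Groth.Agent.PrinLib

variable {X Y X' Y' : Scheme.{u}}

theorem pow_mono {I J : X.IdealSheafData} (h : I ≤ J) (n : ℕ) : I ^ n ≤ J ^ n := fun U => by
  rw [Scheme.IdealSheafData.ideal_pow, Scheme.IdealSheafData.ideal_pow, Pi.pow_apply, Pi.pow_apply]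
  exact Ideal.pow_right_mono (h U) n

theorem comap_ker_le (i : Y ⟶ X) (i' : Y' ⟶ X') (g : X ⟶ X') (gZ : Y ⟶ Y') (h : gZ ≫ i' = i ≫ g) :
    i'.ker.comap g ≤ i.ker := by
  rw [← Scheme.IdealSheafData.le_map_iff_comap_le, Scheme.IdealSheafData.map_ker, ← h]
  exact gZ.le_ker_comp i'

theorem pow_ker_le_map (i : Y ⟶ X) (i' : Y' ⟶ X') (g : X ⟶ X') (gZ : Y ⟶ Y') (h : gZ ≫ i' = i ≫ g) (n : ℕ) :
    i'.ker ^ (n + 1) ≤ (i.ker ^ (n + 1)).map g := by
  rw [Scheme.IdealSheafData.le_map_iff_comap_le, FSchLib.comap_pow]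
  exact pow_mono (comap_ker_le i i' g gZ h) (n + 1)

/-- The map of infinitesimal neighbourhoods of a commutative square. -/
def infMap (i : Y ⟶ X) (i' : Y' ⟶ X') (g : X ⟶ X') (gZ : Y ⟶ Y') (h : gZ ≫ i' = i ≫ g) (n : ℕ) :
    PrinPart.infNbhd i n ⟶ PrinPart.infNbhd i' n :=
  Scheme.IdealSheafData.subschemeMap _ _ g (pow_ker_le_map i i' g gZ h n)

@[reassoc]
theorem infMap_ι (i : Y ⟶ X) (i' : Y' ⟶ X') (g : X ⟶ X') (gZ : Y ⟶ Y') (h : gZ ≫ i' = i ≫ g) (n : ℕ) :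
    infMap i i' g gZ h n ≫ PrinPart.infNbhdι i' n = PrinPart.infNbhdι i n ≫ g :=
  Scheme.IdealSheafData.subschemeMap_subschemeι _ _ _ _

instance isClosedImmersion_infNbhdι (i : Y ⟶ X) (n : ℕ) : IsClosedImmersion (PrinPart.infNbhdι i n) :=
  inferInstanceAs (IsClosedImmersion (i.ker ^ (n + 1)).subschemeι)

theorem ker_infNbhdι (i : Y ⟶ X) (n : ℕ) : (PrinPart.infNbhdι i n).ker = i.ker ^ (n + 1) :=
  Scheme.IdealSheafData.ker_subschemeι _

end Groth.Agent.PrinLib
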