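import Groth.Agent.PrinLib.Generate

/-!
# Principal parts of order one
-/

set_option autoImplicit false
set_option backward.isDefEq.respectTransparency.types false
set_option backward.isDefEq.respectTransparency false
set_option linter.style.haveILetI false
universe u

open CategoryTheory CategoryTheory.Limits AlgebraicGeometry TopologicalSpace Opposite

noncomputable section

namespace Groth.Agent.PrinLib

variable {X S : Scheme.{u}} (f : X ⟶ S)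

/-- Two functions on `X^{(1)}` vanishing on the diagonal have product zero. -/
theorem mul_eq_zero_of_app_toNbhd {O : (PrinPart.nbhd f 1).Opens} (a b : Γ(PrinPart.nbhd f 1, O))
    (ha : (PrinPart.toNbhd f 1).app O a = 0) (hb : (PrinPart.toNbhd f 1).app O b = 0) : a * b = 0 := by
  haveI := isClosedImmersion_toNbhd f 1
  refine TopCat.Presheaf.section_ext (PrinPart.nbhd f 1).sheaf O (a * b) 0 fun z hz => ?_
  obtain ⟨V, hV, hzV, hVO⟩ := Opens.isBasis_iff_nbhd.mp (PrinPart.nbhd f 1).isBasis_affineOpens hz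
  have hmem : ∀ c : Γ(PrinPart.nbhd f 1, O), (PrinPart.toNbhd f 1).app O c = 0 →
      (PrinPart.nbhd f 1).presheaf.map (homOfLE hVO).op c ∈ (PrinPart.toNbhd f 1).ker.ideal ⟨V, hV⟩ := by
    intro c hc
    rw [Scheme.Hom.ker_apply, RingHom.mem_ker]
    have h1 := congr($((PrinPart.toNbhd f 1).naturality (homOfLE hVO).op) c)
    simp only [CommRingCat.comp_apply] at h1
    rw [hc, map_zero] at h1
    exact h1
  have h2 := Ideal.mul_mem_mul (hmem a ha) (hmem b hb)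
  have h3 := ker_toNbhd_pow f 1 ⟨V, hV⟩
  rw [Scheme.IdealSheafData.ideal_pow, Pi.pow_apply, pow_two] at h3
  have h4 : (PrinPart.nbhd f 1).presheaf.map (homOfLE hVO).op (a * b) = 0 := by
    rw [map_mul]
    simpa using h3 h2
  calc (PrinPart.nbhd f 1).presheaf.germ O z hz (a * b)
      = (PrinPart.nbhd f 1).presheaf.germ V z hzV ((PrinPart.nbhd f 1).presheaf.map (homOfLE hVO).op (a * b)) :=
        ((PrinPart.nbhd f 1).presheaf.germ_res_apply _ _ _ _).symm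
    _ = 0 := by rw [h4, map_zero]
    _ = (PrinPart.nbhd f 1).presheaf.germ O z hz 0 := (map_zero _).symm

/-- `a ↦ p₁^# a` on sections. -/
def leftFun (n : ℕ) (U : X.Opens) : Γ(X, U) →+* Γ(PrinPart.nbhd f n, PrinPart.pr1 f n ⁻¹ᵁ U) :=
  ((PrinPart.pr1 f n).app U).hom

/-- `a ↦ p₂^# a` on sections. -/
def rightFun (n : ℕ) (U : X.Opens) : Γ(X, U) →+* Γ(PrinPart.nbhd f n, PrinPart.pr1 f n ⁻¹ᵁ U) :=
  ((PrinPart.pr2 f n).appLE U (PrinPart.pr1 f n ⁻¹ᵁ U) (PrinPart.preimage_pr1 f n U).le).hom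

theorem app_retraction_sub {Z : Scheme.{u}} (t : X ⟶ Z) (p q : Z ⟶ X) (hp : t ≫ p = 𝟙 X)
    (hq : t ≫ q = 𝟙 X) (U : X.Opens) (e : p ⁻¹ᵁ U ≤ q ⁻¹ᵁ U) (a : Γ(X, U)) :
    t.app (p ⁻¹ᵁ U) (q.appLE U (p ⁻¹ᵁ U) e a - p.app U a) = 0 := by
  have key : ∀ (r : X ⟶ X), r = 𝟙 X → ∀ (e' : t ⁻¹ᵁ (p ⁻¹ᵁ U) ≤ r ⁻¹ᵁ U)
      (h : t ⁻¹ᵁ (p ⁻¹ᵁ U) ≤ U), r.appLE U _ e' a = X.presheaf.map (homOfLE h).op a := by
    rintro _ rfl e' h
    rw [Scheme.Hom.appLE, Scheme.Hom.id_app]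
    rfl
  have hle : t ⁻¹ᵁ (p ⁻¹ᵁ U) ≤ U := by rw [← Scheme.Hom.comp_preimage, hp, Scheme.Hom.id_preimage]
  rw [map_sub, sub_eq_zero, Scheme.Hom.app_eq_appLE (f := t), Scheme.Hom.app_eq_appLE (f := p),
    ← CommRingCat.comp_apply, ← CommRingCat.comp_apply, Scheme.Hom.appLE_comp_appLE,
    Scheme.Hom.appLE_comp_appLE, key _ hq _ hle, key _ hp _ hle]

theorem app_sub_eq_zero (n : ℕ) (U : X.Opens) (a : Γ(X, U)) :
    (PrinPart.toNbhd f n).app (PrinPart.pr1 f n ⁻¹ᵁ U) (rightFun f n U a - leftFun f n U a) = 0 :=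
  app_retraction_sub (PrinPart.toNbhd f n) (PrinPart.pr1 f n) (PrinPart.pr2 f n) (PrinPart.toNbhd_pr1 f n)
    (PrinPart.toNbhd_pr2 f n) U (PrinPart.preimage_pr1 f n U).le a

theorem appLE_base {Z : Scheme.{u}} (p q : Z ⟶ X) (h : p ≫ f = q ≫ f) (V : S.Opens)
    (e : p ⁻¹ᵁ (f ⁻¹ᵁ V) ≤ q ⁻¹ᵁ (f ⁻¹ᵁ V)) (c : Γ(S, V)) :
    q.appLE (f ⁻¹ᵁ V) (p ⁻¹ᵁ (f ⁻¹ᵁ V)) e (f.app V c) = p.app (f ⁻¹ᵁ V) (f.app V c) := by
  have key : ∀ (r r' : Z ⟶ S), r = r' → ∀ e₁ e₂,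
      r.appLE V (p ⁻¹ᵁ (f ⁻¹ᵁ V)) e₁ c = r'.appLE V (p ⁻¹ᵁ (f ⁻¹ᵁ V)) e₂ c := by
    rintro _ _ rfl _ _; rfl
  rw [Scheme.Hom.app_eq_appLE (f := p), Scheme.Hom.app_eq_appLE (f := f),
    ← CommRingCat.comp_apply, ← CommRingCat.comp_apply, Scheme.Hom.appLE_comp_appLE,
    Scheme.Hom.appLE_comp_appLE]
  exact key _ _ h.symm _ _

theorem rightFun_mul (U : X.Opens) (a b : Γ(X, U)) :
    rightFun f 1 U (a * b) =
      leftFun f 1 U a * rightFun f 1 U b + leftFun f 1 U b * rightFun f 1 U a - leftFun f 1 U (a * b) := by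
  have h := mul_eq_zero_of_app_toNbhd f _ _ (app_sub_eq_zero f 1 U a) (app_sub_eq_zero f 1 U b)
  rw [map_mul, map_mul]
  linear_combination h

/-- `d^n b = p₂^# b • d^n 1`. -/
theorem dn_eq_smul (n : ℕ) (U : X.Opens) (a : Γ(X, U)) :
    secOf f n (PrinPart.dn f n U a) = rightFun f n U a • secOf f n (PrinPart.dn f n U 1) := by
  refine Eq.trans (congrArg (fun s => secOf f n (PrinPart.dP f n (Coh.structureModule X) U s)) ?_)
    (dP_smul f n (Coh.structureModule X) U a (OmegaSh.strSect X U 1))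
  exact (mul_one a).symm

theorem dn_mul (U : X.Opens) (a b : Γ(X, U)) :
    PrinPart.dn f 1 U (a * b) = a • PrinPart.dn f 1 U b + b • PrinPart.dn f 1 U a - (a * b) • PrinPart.dn f 1 U 1 := by
  show secOf f 1 (PrinPart.dn f 1 U (a * b)) =
    leftFun f 1 U a • secOf f 1 (PrinPart.dn f 1 U b) + leftFun f 1 U b • secOf f 1 (PrinPart.dn f 1 U a) -
      leftFun f 1 U (a * b) • secOf f 1 (PrinPart.dn f 1 U 1)
  rw [dn_eq_smul, dn_eq_smul f 1 U a, dn_eq_smul f 1 U b, rightFun_mul, sub_smul, add_smul, mul_smul, mul_smul]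

theorem dn_base (n : ℕ) (V : S.Opens) (c : Γ(S, V)) :
    PrinPart.dn f n (f ⁻¹ᵁ V) (f.app V c) = f.app V c • PrinPart.dn f n (f ⁻¹ᵁ V) 1 := by
  show secOf f n (PrinPart.dn f n (f ⁻¹ᵁ V) (f.app V c)) =
    leftFun f n (f ⁻¹ᵁ V) (f.app V c) • secOf f n (PrinPart.dn f n (f ⁻¹ᵁ V) 1)
  rw [dn_eq_smul]
  exact congrArg (· • secOf f n (PrinPart.dn f n (f ⁻¹ᵁ V) 1))
    (appLE_base f (PrinPart.pr1 f n) (PrinPart.pr2 f n) (PrinPart.pr1_comp f n) V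
      (PrinPart.preimage_pr1 f n (f ⁻¹ᵁ V)).le c)

end Groth.Agent.PrinLib
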