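import Groth.Agent.PrinLib.StalkMod

/-!
# The stalks of `P^n` as local rings of the neighbourhood of the diagonal
-/

set_option autoImplicit false
set_option linter.style.haveILetI false
set_option backward.isDefEq.respectTransparency.types false
set_option backward.isDefEq.respectTransparency false
universe u

open CategoryTheory CategoryTheory.Limits AlgebraicGeometry TopologicalSpace Opposite
open scoped TensorProduct
open Groth.Agent.OmegaLib

noncomputable section

namespace Groth.Agent.PrinLib

variable {X S : Scheme.{u}} (f : X ⟶ S) (n : ℕ)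

/-- The stalk of `P^n` at `x` is the local ring of the neighbourhood at `Δ x`. -/
theorem exists_P_stalk (x : X) :
    ∃ e : (DerSch.stalkFunctor X x).obj (PrinPart.P f n) ≃+
        (PrinPart.nbhd f n).presheaf.stalk (PrinPart.toNbhd f n x),
      (∀ (W : X.Opens) (hW : x ∈ W) (b : Γ(X, W)),
        e (gm (PrinPart.P f n) W x hW (PrinPart.dn f n W b)) =
          stalkMapAt (PrinPart.pr2 f n) (pr2_toNbhd_apply f n x) (X.presheaf.germ W x hW b)) ∧
      ∀ (a : X.presheaf.stalk x) (m : (DerSch.stalkFunctor X x).obj (PrinPart.P f n)),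
        e (a • m) = stalkMapAt (PrinPart.pr1 f n) (pr1_toNbhd_apply f n x) a * e m := by
  let A := X.presheaf.stalk x
  let Oz := (PrinPart.nbhd f n).presheaf.stalk (PrinPart.toNbhd f n x)
  let π₂ := stalkMapAt (PrinPart.pr2 f n) (pr2_toNbhd_apply f n x)
  letI : Algebra A Oz := π₂.hom.toAlgebra
  obtain ⟨E, hE, hEs⟩ := exists_PMod_stalk f n (Coh.structureModule X) x
  let SM := Coh.structureModule X
  let L : A →ₗ[A] (DerSch.stalkFunctor X x).obj SM :=
    LinearMap.toSpanSingleton A _ (gm SM ⊤ x (Opens.mem_top x) (OmegaSh.strSect X ⊤ 1))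
  have hL : ∀ (U : X.Opens) (hU : x ∈ U) (c : Γ(X, U)),
      L (X.presheaf.germ U x hU c) = gm SM U x hU (OmegaSh.strSect X U c) := fun U hU c => by
    show (X.presheaf.germ U x hU c : A) • gm SM ⊤ x (Opens.mem_top x) (OmegaSh.strSect X ⊤ 1) = _
    rw [← gm_res SM (Opens.mem_top x) (le_top : U ≤ ⊤) hU, ← gm_smul]
    refine congrArg (gm SM U x hU) ?_
    show c * X.presheaf.map (homOfLE (le_top : U ≤ ⊤)).op 1 = c
    rw [map_one, mul_one]
  have hLb : Function.Bijective L := by
    refine ⟨(injective_iff_map_eq_zero L).2 fun r hr => ?_, fun m => ?_⟩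
    · obtain ⟨U, hU, c, rfl⟩ := X.presheaf.exists_germ_eq (x := x) r
      rw [hL] at hr
      obtain ⟨W, hW, i, j, he⟩ := SM.presheaf.germ_eq x hU hU _ 0 (hr.trans (gm_zero SM hU).symm)
      have he' : X.presheaf.map i.op c = 0 := he.trans (map_zero _)
      rw [← X.presheaf.germ_res_apply i x hW c, he', map_zero]
    · obtain ⟨U, hU, s, rfl⟩ := exists_gm SM m
      exact ⟨X.presheaf.germ U x hU (OmegaSh.fnSect X U s), hL U hU _⟩
  let eO : (DerSch.stalkFunctor X x).obj SM ≃ₗ[A] A := (LinearEquiv.ofBijective L hLb).symm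
  let T := (LinearEquiv.baseChange A Oz _ _ eO).trans (TensorProduct.AlgebraTensorModule.rid A Oz Oz)
  refine ⟨E.trans T.toAddEquiv, fun W hW b => ?_, fun a m => ?_⟩
  · show T (E _) = _
    refine (congrArg T (hE W hW (OmegaSh.strSect X W b))).trans ?_
    show TensorProduct.AlgebraTensorModule.rid A Oz Oz (LinearEquiv.baseChange A Oz _ _ eO (1 ⊗ₜ _)) = _
    rw [LinearEquiv.baseChange_tmul, ← hL W hW b,
      show eO (L (X.presheaf.germ W x hW b)) = X.presheaf.germ W x hW b from
        (LinearEquiv.ofBijective L hLb).symm_apply_apply _, TensorProduct.AlgebraTensorModule.rid_tmul,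
      Algebra.smul_def, mul_one]
    rfl
  · show T (E (a • m)) = _ * T (E m)
    rw [hEs, map_smul]
    rfl

end Groth.Agent.PrinLib
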