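import Groth.Agent.Coherent.FiniteType
import Groth.Agent.EGA43.InjFibre.Scheme
import Groth.Agent.Flatn12.PullbackSections

/-!
# Pullbacks of quasi-coherent modules of finite type
-/

set_option autoImplicit false

universe u

open CategoryTheory CategoryTheory.Limits AlgebraicGeometry Opposite TopologicalSpace
  Groth.Agent.Coherent

namespace Groth.Agent.PrinLib

variable {X Y : Scheme.{u}} (f : Y ⟶ X) {F : X.Modules}

/-- The pullback of a quasi-coherent module of finite type is of finite type. -/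
theorem isFT_pullback_of_qcoh (hq : Coh.IsQCoh F) (hft : CohB1.IsFT F) :
    CohB1.IsFT ((Scheme.Modules.pullback f).obj F) := by
  have := hq
  have := EGA43.InjFibre.isQCoh_pullback f F
  refine isFT_of_locallyFinGen (locallyFinGen_of_finite_sections _
    (fun p : {p : Y.affineOpens × X.affineOpens // (p.1 : Y.Opens) ≤ f ⁻¹ᵁ (p.2 : X.Opens)} => p.1.1.1)
    (fun p => p.1.1.2) ?_ fun p => ?_)
  · intro y
    obtain ⟨V, hV, hyV, -⟩ := Opens.isBasis_iff_nbhd.mp X.isBasis_affineOpens (Opens.mem_top (f y))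
    obtain ⟨U, hU, hyU, hUV⟩ := Opens.isBasis_iff_nbhd.mp Y.isBasis_affineOpens
      (show y ∈ f ⁻¹ᵁ V from hyV)
    exact ⟨⟨(⟨U, hU⟩, ⟨V, hV⟩), hUV⟩, hyU⟩
  · have := finite_sections F (locallyFinGen_of_isFT F hft) p.1.2.2
    let _ := (f.appLE p.1.2.1 p.1.1.1 p.2).hom.toAlgebra
    obtain ⟨e⟩ := Flatn12.nonempty_pullback_sections_equiv f F p.1.2.2 p.1.1.2 p.2
    exact Module.Finite.equiv e

end Groth.Agent.PrinLib
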