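import Groth.Agent.PrinLib.Generate
import Groth.Agent.PrinLib.Affine
import Mathlib.RingTheory.Kaehler.Basic

/-!
# The local rings of the neighbourhoods of the diagonal

At `z = Δ x` the local ring of `X^{(n)}_Δ` is `(A ⊗ A) / J^(n+1)` for `A = O_{X,x}` over an affine base.
-/

set_option autoImplicit false
set_option linter.style.haveILetI false
set_option backward.isDefEq.respectTransparency.types false
set_option backward.isDefEq.respectTransparency false
universe u

open CategoryTheory CategoryTheory.Limits AlgebraicGeometry TopologicalSpace Opposite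
open scoped TensorProduct

noncomputable section

namespace Groth.Agent.PrinLib

theorem germ_app_congr {P Q : Scheme.{u}} {p q : P ⟶ Q} (h : p = q) (W : Q.Opens) (z : P)
    (hp : z ∈ p ⁻¹ᵁ W) (hq : z ∈ q ⁻¹ᵁ W) (r : Γ(Q, W)) :
    P.presheaf.germ (p ⁻¹ᵁ W) z hp (p.app W r) = P.presheaf.germ (q ⁻¹ᵁ W) z hq (q.app W r) := by
  subst h; rfl

/-- The stalk map of `p` at `w`, read from a point equal to `p w`. -/
def stalkMapAt {P Q : Scheme.{u}} (p : P ⟶ Q) {w : P} {x : Q} (h : p w = x) :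
    Q.presheaf.stalk x ⟶ P.presheaf.stalk w :=
  Q.presheaf.stalkSpecializes (specializes_of_eq h) ≫ p.stalkMap w

theorem stalkMapAt_germ {P Q : Scheme.{u}} (p : P ⟶ Q) {w : P} {x : Q} (h : p w = x) (W : Q.Opens)
    (hx : x ∈ W) (hw : w ∈ p ⁻¹ᵁ W) (r : Γ(Q, W)) :
    stalkMapAt p h (Q.presheaf.germ W x hx r) = P.presheaf.germ (p ⁻¹ᵁ W) w hw (p.app W r) := by
  show p.stalkMap w (Q.presheaf.stalkSpecializes _ (Q.presheaf.germ W x hx r)) = _
  rw [TopCat.Presheaf.germ_stalkSpecializes_apply, Scheme.Hom.germ_stalkMap_apply]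

theorem range_stalkMapAt {P Q : Scheme.{u}} (p : P ⟶ Q) {w : P} {x : Q} (h : p w = x) :
    Set.range (p.stalkMap w) ⊆ Set.range (stalkMapAt p h) := by
  subst h
  rintro _ ⟨c, rfl⟩
  refine ⟨c, ?_⟩
  show p.stalkMap w (Q.presheaf.stalkSpecializes _ c) = _
  rw [TopCat.Presheaf.stalkSpecializes_refl]
  rfl

theorem pr2_toNbhd_apply {X S : Scheme.{u}} (f : X ⟶ S) (n : ℕ) (x : X) :
    PrinPart.pr2 f n (PrinPart.toNbhd f n x) = x := by
  rw [← Scheme.Hom.comp_apply, PrinPart.toNbhd_pr2]; rfl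

/-- The local ring of the `n`-th neighbourhood of the diagonal at `Δ x` is `(A ⊗ A) / J^(n+1)`. -/
theorem exists_stalkRing {X S : Scheme.{u}} (f : X ⟶ S) (n : ℕ) (x : X) {T : S.Opens} (hT : IsAffineOpen T)
    (hxT : f x ∈ T) :
    letI : Algebra Γ(S, T) (X.presheaf.stalk x) := (S.presheaf.germ T (f x) hxT ≫ f.stalkMap x).hom.toAlgebra
    ∃ ψ : X.presheaf.stalk x ⊗[Γ(S, T)] X.presheaf.stalk x →+*
        (PrinPart.nbhd f n).presheaf.stalk (PrinPart.toNbhd f n x),
      Function.Surjective ψ ∧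
      RingHom.ker ψ = KaehlerDifferential.ideal Γ(S, T) (X.presheaf.stalk x) ^ (n + 1) ∧
      (∀ a : X.presheaf.stalk x,
        ψ (a ⊗ₜ 1) = stalkMapAt (PrinPart.pr1 f n) (pr1_toNbhd_apply f n x) a) ∧
      ∀ b : X.presheaf.stalk x,
        ψ (1 ⊗ₜ b) = stalkMapAt (PrinPart.pr2 f n) (pr2_toNbhd_apply f n x) b := by
  let k := Γ(S, T)
  let A := X.presheaf.stalk x
  letI algA : Algebra k A := (S.presheaf.germ T (f x) hxT ≫ f.stalkMap x).hom.toAlgebra
  let J := KaehlerDifferential.ideal k A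
  let z := PrinPart.toNbhd f n x
  let i := PrinPart.infNbhdι (PrinPart.diagCl f) n
  let Wo := (pullback.diagonal f).coborderRange
  let w' := i z
  let w : ↥(pullback f f) := Wo.ι w'
  let P : Scheme.{u} := pullback f f
  let O := P.presheaf.stalk w
  let Oz := (PrinPart.nbhd f n).presheaf.stalk z
  let t := PrinPart.toNbhd f n
  have h1 : pullback.fst f f w = x := pr1_toNbhd_apply f n x
  have h2 : pullback.snd f f w = x := pr2_toNbhd_apply f n x
  let γ₁ : A ⟶ O := stalkMapAt (pullback.fst f f) h1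
  let γ₂ : A ⟶ O := stalkMapAt (pullback.snd f f) h2
  let ιz : O ⟶ Oz := (PrinPart.nbhdι f n).stalkMap z
  let π₁ : A ⟶ Oz := stalkMapAt (PrinPart.pr1 f n) (pr1_toNbhd_apply f n x)
  let π₂ : A ⟶ Oz := stalkMapAt (PrinPart.pr2 f n) (pr2_toNbhd_apply f n x)
  let ρw : O ⟶ A := ιz ≫ t.stalkMap x
  have hπ₁ : ∀ a, π₁ a = ιz (γ₁ a) := by
    intro a
    obtain ⟨W, hW, r, rfl⟩ := X.presheaf.exists_germ_eq (x := x) a
    show stalkMapAt _ _ _ = (PrinPart.nbhdι f n).stalkMap z (stalkMapAt _ _ _)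
    refine (stalkMapAt_germ _ _ W hW (show z ∈ PrinPart.pr1 f n ⁻¹ᵁ W by
      show PrinPart.pr1 f n z ∈ W; rw [pr1_toNbhd_apply]; exact hW) r).trans ?_
    refine Eq.trans ?_ (congrArg ((PrinPart.nbhdι f n).stalkMap z) (stalkMapAt_germ _ h1 W hW
      (show w ∈ pullback.fst f f ⁻¹ᵁ W by show pullback.fst f f w ∈ W; rw [h1]; exact hW) r).symm)
    refine (germ_app_congr (show PrinPart.pr1 f n = PrinPart.nbhdι f n ≫ pullback.fst f f from rfl) W z _
      (show PrinPart.pr1 f n z ∈ W by rw [pr1_toNbhd_apply]; exact hW) r).trans ?_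
    exact (Scheme.Hom.germ_stalkMap_apply (PrinPart.nbhdι f n) (pullback.fst f f ⁻¹ᵁ W) z
      (show PrinPart.nbhdι f n z ∈ pullback.fst f f ⁻¹ᵁ W by show pullback.fst f f w ∈ W; rw [h1]; exact hW)
      ((pullback.fst f f).app W r)).symm
  have hπ₂ : ∀ a, π₂ a = ιz (γ₂ a) := by
    intro a
    obtain ⟨W, hW, r, rfl⟩ := X.presheaf.exists_germ_eq (x := x) a
    show stalkMapAt _ _ _ = (PrinPart.nbhdι f n).stalkMap z (stalkMapAt _ _ _)
    refine (stalkMapAt_germ _ _ W hW (show z ∈ PrinPart.pr2 f n ⁻¹ᵁ W by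
      show PrinPart.pr2 f n z ∈ W; rw [pr2_toNbhd_apply]; exact hW) r).trans ?_
    refine Eq.trans ?_ (congrArg ((PrinPart.nbhdι f n).stalkMap z) (stalkMapAt_germ _ h2 W hW
      (show w ∈ pullback.snd f f ⁻¹ᵁ W by show pullback.snd f f w ∈ W; rw [h2]; exact hW) r).symm)
    refine (germ_app_congr (show PrinPart.pr2 f n = PrinPart.nbhdι f n ≫ pullback.snd f f from rfl) W z _
      (show PrinPart.pr2 f n z ∈ W by rw [pr2_toNbhd_apply]; exact hW) r).trans ?_
    exact (Scheme.Hom.germ_stalkMap_apply (PrinPart.nbhdι f n) (pullback.snd f f ⁻¹ᵁ W) z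
      (show PrinPart.nbhdι f n z ∈ pullback.snd f f ⁻¹ᵁ W by show pullback.snd f f w ∈ W; rw [h2]; exact hW)
      ((pullback.snd f f).app W r)).symm
  have hρπ : ∀ (p : PrinPart.nbhd f n ⟶ X) (hp : t ≫ p = 𝟙 X) (h : p z = x) (a : A),
      t.stalkMap x (stalkMapAt p h a) = a := by
    intro p hp h a
    obtain ⟨W, hW, r, rfl⟩ := X.presheaf.exists_germ_eq (x := x) a
    rw [stalkMapAt_germ p h W hW (show p z ∈ W by rw [h]; exact hW), Scheme.Hom.germ_stalkMap_apply]
    refine (germ_app_congr hp W x (show p (t x) ∈ W by rw [h]; exact hW) hW r).trans ?_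
    rfl
  have hρ₁ : ∀ a, ρw (γ₁ a) = a := fun a => by
    show t.stalkMap x (ιz (γ₁ a)) = a
    rw [← hπ₁]
    exact hρπ _ (PrinPart.toNbhd_pr1 f n) _ a
  have hρ₂ : ∀ a, ρw (γ₂ a) = a := fun a => by
    show t.stalkMap x (ιz (γ₂ a)) = a
    rw [← hπ₂]
    exact hρπ _ (PrinPart.toNbhd_pr2 f n) _ a
  -- an affine chart
  obtain ⟨U, hU, hxU, hUT⟩ := Opens.isBasis_iff_nbhd.mp X.isBasis_affineOpens (show x ∈ f ⁻¹ᵁ T from hxT)
  let Pw : P.Opens := pullback.fst f f ⁻¹ᵁ U ⊓ pullback.snd f f ⁻¹ᵁ U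
  have hwP : w ∈ Pw :=
    ⟨by show pullback.fst f f w ∈ U; rw [h1]; exact hxU, by show pullback.snd f f w ∈ U; rw [h2]; exact hxU⟩
  have H := IsPullback.of_hasPullback f f
  haveI : IsAffine (Scheme.Opens.toScheme T) := hT
  haveI : IsAffine (Scheme.Opens.toScheme U) := hU
  have hP : IsAffineOpen Pw :=
    .of_isIso (Scheme.Hom.isPullback_resLE H hUT hUT (rfl : Pw = _)).isoPullback.hom
  have hpush := (isIso_pushoutSection_iff H hUT hUT (rfl : Pw = _)).mp
    (isIso_pushoutSection_of_isAffineOpen H hUT hUT rfl hT hU hU)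
  let gU : Γ(X, U) →+* A := (X.presheaf.germ U x hxU).hom
  have hgU : ∀ r : k, gU (f.appLE T U hUT r) = algebraMap k A r := by
    intro r
    show X.presheaf.germ U x hxU (f.appLE T U hUT r) = f.stalkMap x (S.presheaf.germ T (f x) hxT r)
    rw [Scheme.Hom.germ_stalkMap_apply, Scheme.Hom.appLE, CommRingCat.comp_apply]
    exact X.presheaf.germ_res_apply _ x hxU _
  let Q := (A ⊗[k] A) ⧸ J ^ (n + 1)
  let mk : A ⊗[k] A →+* Q := Ideal.Quotient.mk (J ^ (n + 1))
  let l : Γ(X, U) →+* Q := mk.comp ((Algebra.TensorProduct.includeLeftRingHom).comp gU)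
  let r : Γ(X, U) →+* Q := mk.comp
    ((Algebra.TensorProduct.includeRight : A →ₐ[k] A ⊗[k] A).toRingHom.comp gU)
  have hlr : (f.appLE T U hUT) ≫ CommRingCat.ofHom l = (f.appLE T U hUT) ≫ CommRingCat.ofHom r := by
    refine CommRingCat.hom_ext (RingHom.ext fun c => ?_)
    show mk ((gU (f.appLE T U hUT c)) ⊗ₜ (1 : A)) = mk ((1 : A) ⊗ₜ gU (f.appLE T U hUT c))
    rw [hgU, ← Algebra.TensorProduct.algebraMap_apply, ← Algebra.TensorProduct.algebraMap_apply']
  let β₀ := hpush.desc (CommRingCat.ofHom l) (CommRingCat.ofHom r) hlr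
  have hβ₁ : ∀ c, β₀ ((pullback.fst f f).appLE U Pw inf_le_left c) = l c := fun c =>
    congr($(hpush.inl_desc (CommRingCat.ofHom l) (CommRingCat.ofHom r) hlr) c)
  have hβ₂ : ∀ c, β₀ ((pullback.snd f f).appLE U Pw inf_le_right c) = r c := fun c =>
    congr($(hpush.inr_desc (CommRingCat.ofHom l) (CommRingCat.ofHom r) hlr) c)
  let gP : Γ(P, Pw) →+* O := (P.presheaf.germ Pw w hwP).hom
  have hγ₁ : ∀ c, γ₁ (gU c) = gP ((pullback.fst f f).appLE U Pw inf_le_left c) := by
    intro c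
    refine (stalkMapAt_germ _ h1 U hxU hwP.1 c).trans ?_
    rw [Scheme.Hom.appLE, CommRingCat.comp_apply]
    exact (P.presheaf.germ_res_apply _ w hwP _).symm
  have hγ₂ : ∀ c, γ₂ (gU c) = gP ((pullback.snd f f).appLE U Pw inf_le_right c) := by
    intro c
    refine (stalkMapAt_germ _ h2 U hxU hwP.2 c).trans ?_
    rw [Scheme.Hom.appLE, CommRingCat.comp_apply]
    exact (P.presheaf.germ_res_apply _ w hwP _).symm
  let mul : A ⊗[k] A →+* A := (Algebra.TensorProduct.lmul' k (S := A)).toRingHom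
  have hmulJ : ∀ q ∈ J ^ (n + 1), mul q = 0 := fun q hq =>
    Ideal.pow_le_self (Nat.succ_ne_zero n) hq
  let χ : Q →+* A := Ideal.Quotient.lift _ mul hmulJ
  have hχker : ∀ q, χ q = 0 → ∃ j ∈ J, mk j = q := by
    intro q hq
    obtain ⟨j, rfl⟩ := Ideal.Quotient.mk_surjective q
    exact ⟨j, hq, rfl⟩
  have hχβ : ∀ s, χ (β₀ s) = ρw (gP s) := by
    have : β₀ ≫ CommRingCat.ofHom χ = P.presheaf.germ Pw w hwP ≫ ρw := by
      refine hpush.hom_ext ?_ ?_ <;> refine CommRingCat.hom_ext (RingHom.ext fun c => ?_)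
      · show χ (β₀ ((pullback.fst f f).appLE U Pw _ c)) = ρw (gP ((pullback.fst f f).appLE U Pw _ c))
        rw [hβ₁, ← hγ₁, hρ₁]
        show Algebra.TensorProduct.lmul' k (gU c ⊗ₜ (1 : A)) = gU c
        simp
      · show χ (β₀ ((pullback.snd f f).appLE U Pw _ c)) = ρw (gP ((pullback.snd f f).appLE U Pw _ c))
        rw [hβ₂, ← hγ₂, hρ₂]
        show Algebra.TensorProduct.lmul' k ((1 : A) ⊗ₜ gU c) = gU c
        simp
    exact fun s => congr($this s)
  letI := P.presheaf.algebra_section_stalk ⟨w, hwP⟩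
  haveI : IsLocalization.AtPrime O (hP.primeIdealOf ⟨w, hwP⟩).asIdeal := hP.isLocalization_stalk ⟨w, hwP⟩
  let M := (hP.primeIdealOf ⟨w, hwP⟩).asIdeal.primeCompl
  have hunit : ∀ s : M, IsUnit (β₀.hom s) := by
    intro s
    have hu : IsUnit (χ (β₀ (s : Γ(P, Pw)))) := by
      rw [hχβ]
      exact (IsLocalization.map_units O s).map ρw.hom
    obtain ⟨c, hc⟩ := hu
    have hcu : IsUnit (mk ((c : A) ⊗ₜ (1 : A))) :=
      (c.isUnit.map (Algebra.TensorProduct.includeLeftRingHom : A →+* A ⊗[k] A)).map mk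
    have h0 : χ (β₀ (s : Γ(P, Pw)) - mk ((c : A) ⊗ₜ (1 : A))) = 0 := by
      rw [map_sub, ← hc]
      show (c : A) - Algebra.TensorProduct.lmul' k ((c : A) ⊗ₜ (1 : A)) = 0
      simp
    obtain ⟨j, hj, hje⟩ := hχker _ h0
    have hnil : IsNilpotent (mk j) := ⟨n + 1, by
      rw [← map_pow]
      exact Ideal.Quotient.eq_zero_iff_mem.2 (Ideal.pow_mem_pow hj _)⟩
    have h3 := hnil.isUnit_add_left_of_commute hcu (Commute.all _ _)
    rwa [hje, add_sub_cancel] at h3
  let β : O →+* Q := IsLocalization.lift hunit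
  have hβgP : ∀ s, β (gP s) = β₀ s := fun s => IsLocalization.lift_eq hunit s
  have hχβ' : ∀ o, χ (β o) = ρw o := by
    have : χ.comp β = ρw.hom := IsLocalization.ringHom_ext M (RingHom.ext fun s => by
      show χ (β (gP s)) = ρw (gP s)
      rw [hβgP, hχβ])
    exact fun o => RingHom.congr_fun this o
  letI := X.presheaf.algebra_section_stalk ⟨x, hxU⟩
  haveI : IsLocalization.AtPrime A (hU.primeIdealOf ⟨x, hxU⟩).asIdeal := hU.isLocalization_stalk ⟨x, hxU⟩
  have hβγ₁ : ∀ a, β (γ₁ a) = mk (a ⊗ₜ (1 : A)) := by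
    have : β.comp γ₁.hom = mk.comp (Algebra.TensorProduct.includeLeftRingHom) :=
      IsLocalization.ringHom_ext (hU.primeIdealOf ⟨x, hxU⟩).asIdeal.primeCompl (RingHom.ext fun c => by
        show β (γ₁ (gU c)) = l c
        rw [hγ₁, hβgP, hβ₁])
    exact fun a => RingHom.congr_fun this a
  have hβγ₂ : ∀ a, β (γ₂ a) = mk ((1 : A) ⊗ₜ a) := by
    have : β.comp γ₂.hom = mk.comp ((Algebra.TensorProduct.includeRight : A →ₐ[k] A ⊗[k] A).toRingHom) :=
      IsLocalization.ringHom_ext (hU.primeIdealOf ⟨x, hxU⟩).asIdeal.primeCompl (RingHom.ext fun c => by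
        show β (γ₂ (gU c)) = r c
        rw [hγ₂, hβgP, hβ₂])
    exact fun a => RingHom.congr_fun this a
  -- the two maps agree on the base
  have hkγ : ∀ c : k, γ₁ (algebraMap k A c) = γ₂ (algebraMap k A c) := fun c => by
    rw [← hgU, hγ₁, hγ₂]
    exact congrArg gP congr($(hpush.w) c)
  let γk : k →+* O := γ₁.hom.comp (algebraMap k A)
  letI : Algebra k O := γk.toAlgebra
  let γ : A ⊗[k] A →ₐ[k] O := Algebra.TensorProduct.productMap
    ({ γ₁.hom with commutes' := fun c => rfl } : A →ₐ[k] O)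
    ({ γ₂.hom with commutes' := fun c => (hkγ c).symm } : A →ₐ[k] O)
  have hγl : ∀ a, γ (a ⊗ₜ (1 : A)) = γ₁ a := fun a => by
    show γ₁ a * γ₂ 1 = _
    rw [map_one, mul_one]
  have hγr : ∀ a, γ ((1 : A) ⊗ₜ a) = γ₂ a := fun a => by
    show γ₁ 1 * γ₂ a = _
    rw [map_one, one_mul]
  have hβγ : ∀ q, β (γ q) = mk q := by
    intro q
    induction q using TensorProduct.induction_on with
    | zero => simp only [map_zero]
    | add a b ha hb => simp only [map_add, ha, hb]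
    | tmul a b =>
      rw [show a ⊗ₜ[k] b = (a ⊗ₜ[k] (1 : A)) * ((1 : A) ⊗ₜ[k] b) by simp, map_mul, map_mul, hγl, hγr,
        hβγ₁, hβγ₂, map_mul]
  let ψ : A ⊗[k] A →+* Oz := ιz.hom.comp γ.toRingHom
  refine ⟨ψ, fun m => ?_, le_antisymm ?_ ?_, fun a => ?_, fun b => ?_⟩
  · have hm : m ∈ genRing (PrinPart.pr1 f n) (PrinPart.pr2 f n) z := by
      rw [genRing_stalk_eq_top]; trivial
    have hle : genRing (PrinPart.pr1 f n) (PrinPart.pr2 f n) z ≤ ψ.range := by
      refine Subring.closure_le.2 (Set.union_subset ?_ ?_)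
      · refine (range_stalkMapAt _ (pr1_toNbhd_apply f n x)).trans ?_
        rintro _ ⟨a, rfl⟩
        exact ⟨a ⊗ₜ 1, (congrArg ιz (hγl a)).trans (hπ₁ a).symm⟩
      · refine (range_stalkMapAt _ (pr2_toNbhd_apply f n x)).trans ?_
        rintro _ ⟨a, rfl⟩
        exact ⟨1 ⊗ₜ a, (congrArg ιz (hγr a)).trans (hπ₂ a).symm⟩
    exact hle hm
  · intro q hq
    have hq' : γ q ∈ RingHom.ker ιz.hom := hq
    -- the kernel of `ιz` is inside the power of the kernel of `ρw`
    have hker : RingHom.ker ιz.hom ≤ RingHom.ker ρw.hom ^ (n + 1) := by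
      haveI : IsClosedImmersion i := inferInstanceAs (IsClosedImmersion (PrinPart.infNbhdι _ n))
      haveI : IsIso (Wo.ι.stalkMap w') := inferInstance
      let e : O ≃+* (Scheme.Opens.toScheme Wo).presheaf.stalk w' :=
        RingEquiv.ofBijective (Wo.ι.stalkMap w').hom (ConcreteCategory.bijective_of_isIso (Wo.ι.stalkMap w'))
      have hsplit : ∀ o, ιz o = i.stalkMap z (e o) := fun o =>
        congr($(Scheme.Hom.stalkMap_comp i Wo.ι z) o)
      obtain ⟨V, hV, hwV, -⟩ :=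
        Opens.isBasis_iff_nbhd.mp (Scheme.Opens.toScheme Wo).isBasis_affineOpens (Opens.mem_top w')
      let ρ' : (Scheme.Opens.toScheme Wo).presheaf.stalk w' →+* A := (t.stalkMap x).hom.comp (i.stalkMap z).hom
      have hK : RingHom.ker (i.stalkMap z).hom ≤ RingHom.ker ρ' ^ (n + 1) := by
        rw [HilbertBurch29.ker_stalkMap_eq i z ⟨V, hV⟩ hwV, ker_infNbhdι,
          Scheme.IdealSheafData.ideal_pow, Pi.pow_apply, Ideal.map_pow]
        refine Ideal.pow_right_mono (Ideal.map_le_iff_le_comap.2 fun c hc => ?_) _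
        rw [Scheme.Hom.ker_apply, RingHom.mem_ker] at hc
        show t.stalkMap x (i.stalkMap z ((Scheme.Opens.toScheme Wo).presheaf.germ V w' hwV c)) = 0
        rw [Scheme.Hom.germ_stalkMap_apply, Scheme.Hom.germ_stalkMap_apply]
        have hxV : x ∈ PrinPart.diagCl f ⁻¹ᵁ V := by
          show PrinPart.diagCl f x ∈ V
          rw [← PrinPart.toInfNbhd_ι (PrinPart.diagCl f) n]
          exact hwV
        refine (germ_app_congr (PrinPart.toInfNbhd_ι (PrinPart.diagCl f) n) V x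
          (show x ∈ (t ≫ i) ⁻¹ᵁ V from hwV) hxV c).trans ?_
        rw [show (PrinPart.diagCl f).app V c = 0 from hc, map_zero]
      intro o ho
      have h4 : e o ∈ RingHom.ker (i.stalkMap z).hom := (hsplit o).symm.trans ho
      have h5 := Ideal.mem_map_of_mem e.symm.toRingHom (hK h4)
      rw [Ideal.map_pow, show e.symm.toRingHom (e o) = o from e.symm_apply_apply o] at h5
      refine Ideal.pow_right_mono (Ideal.map_le_iff_le_comap.2 fun c hc => ?_) _ h5
      show t.stalkMap x (ιz (e.symm c)) = 0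
      rw [hsplit, RingEquiv.apply_symm_apply]
      exact hc
    have h6 := Ideal.mem_map_of_mem β (hker hq')
    rw [hβγ, Ideal.map_pow] at h6
    have h7 : (RingHom.ker ρw.hom).map β ≤ J.map mk := by
      refine Ideal.map_le_iff_le_comap.2 fun o ho => ?_
      obtain ⟨j, hj, hje⟩ := hχker (β o) ((hχβ' o).trans ho)
      show β o ∈ J.map mk
      rw [← hje]
      exact Ideal.mem_map_of_mem mk hj
    have h8 := Ideal.pow_right_mono h7 (n + 1) h6
    rw [← Ideal.map_pow, show (J ^ (n + 1)).map mk = ⊥ from Ideal.map_quotient_self _] at h8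
    exact Ideal.Quotient.eq_zero_iff_mem.1 h8
  · have hJ : J ≤ RingHom.ker ((t.stalkMap x).hom.comp ψ) := by
      intro q hq
      show t.stalkMap x (ιz (γ q)) = 0
      refine (hχβ' (γ q)).symm.trans ?_
      rw [hβγ]
      exact hq
    refine (Ideal.pow_right_mono hJ (n + 1)).trans ?_
    haveI := isClosedImmersion_toNbhd f n
    obtain ⟨V, hV, hzV, -⟩ := Opens.isBasis_iff_nbhd.mp (PrinPart.nbhd f n).isBasis_affineOpens (Opens.mem_top z)
    have h9 : RingHom.ker (t.stalkMap x).hom ^ (n + 1) ≤ ⊥ := by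
      rw [HilbertBurch29.ker_stalkMap_eq t x ⟨V, hV⟩ hzV, ← Ideal.map_pow]
      have h3 := ker_toNbhd_pow f n ⟨V, hV⟩
      rw [Scheme.IdealSheafData.ideal_pow, Pi.pow_apply] at h3
      refine (Ideal.map_mono h3).trans ?_
      simp
    rw [← RingHom.comap_ker]
    refine (Ideal.le_comap_pow ψ (n + 1)).trans ?_
    exact (Ideal.comap_mono h9).trans (le_of_eq rfl)
  · exact (congrArg ιz (hγl a)).trans (hπ₁ a).symm
  · exact (congrArg ιz (hγr b)).trans (hπ₂ b).symm

end Groth.Agent.PrinLib
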